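import Groth.Agent.Curves2.NodeCotangent
import Mathlib.RingTheory.Unramified.Field
import Mathlib.RingTheory.Nakayama

/-!
# Separability of the residue field below a node
-/

set_option autoImplicit false
set_option linter.style.haveILetI false
set_option maxHeartbeats 1600000

universe u

open IsLocalRing
open scoped DualNumber

noncomputable section

namespace Groth.Agent.Node12

open Groth.Agent.Curves2

variable {k K A B : Type u} [Field k] [Field K] [CommRing A] [IsLocalRing A] [CommRing B]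
  [IsLocalRing B] [Algebra K B]

/-- The universal property of a local ring of a base change, for points over a given field. -/
structure IsBCLocal (kA : k →+* A) (kK : k →+* K) (f : A →+* B) : Prop where
  comm : ∀ r, f (kA r) = algebraMap K B (kK r)
  lift : ∀ (R : Type u) [CommRing R] [IsLocalRing R] [Algebra K R] (ρ : R →ₐ[K] K),
    IsLocalHom ρ → ∀ (c : B →ₐ[K] K), IsLocalHom c → ∀ g : A →+* R,
    (∀ r, g (kA r) = algebraMap K R (kK r)) → (∀ a, ρ (g a) = c (f a)) →
    ∃ Φ : B →ₐ[K] R, ∀ a, Φ (f a) = g a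
  uniq : ∀ (R : Type u) [CommRing R] [IsLocalRing R] [Algebra K R] (Φ Φ' : B →ₐ[K] R),
    (∀ a, Φ (f a) = Φ' (f a)) → Φ = Φ'

variable {kA : k →+* A} {kK : k →+* K} {f : A →+* B}

/-- No tangent direction at a node is killed by the maximal ideal below. -/
theorem eq_zero_of_kill (N : NodeCoords K B) [IsLocalHom f] (hbc : IsBCLocal kA kK f) {l₀ l₁ : K}
    (hkill : ∀ a ∈ maximalIdeal A, l₀ * N.α (f a) + l₁ * N.β (f a) = 0) : l₀ = 0 ∧ l₁ = 0 := by
  classical
  obtain ⟨hk, hlift, huniq⟩ := hbc
  by_contra hcon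
  have hl : l₀ ≠ 0 ∨ l₁ ≠ 0 := not_and_or.mp hcon
  let φ : A →+* K[ε] := (N.tangent l₀ l₁).toRingHom.comp f
  have hφm : ∀ a ∈ maximalIdeal A, φ a = 0 := fun a ha =>
    TrivSqZeroExt.ext (N.cst_eq_zero (map_nonunit f a ha)) (hkill a ha)
  let π : K[ε] →+* K := (TrivSqZeroExt.fstHom K K K).toRingHom
  obtain ⟨s, hs, hsl⟩ := exists_semilinear_section φ π
    (fun z => ⟨mkDual z 0, rfl⟩) hφm
  have main : ∀ m₀ m₁ : K, l₀ * m₁ + m₀ * l₁ = 0 := by
    intro m₀ m₁
    have := isLocalRing_dualNumber K[ε]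
    let d : A → K := fun a => m₀ * N.α (f a) + m₁ * N.β (f a)
    have hd1 : d 1 = 0 := by
      simp only [d, map_one]
      obtain ⟨-, h2, h3⟩ := N.coord_algebraMap 1
      rw [map_one] at h2 h3
      rw [h2, h3]; ring
    have hd0 : d 0 = 0 := by
      simp only [d, map_zero]
      obtain ⟨-, h2, h3⟩ := N.coord_algebraMap 0
      rw [map_zero] at h2 h3
      rw [h2, h3]; ring
    have hdadd : ∀ a b, d (a + b) = d a + d b := fun a b => by
      simp only [d, map_add]
      rw [(N.coord_add _ _).2.1, (N.coord_add _ _).2.2]; ring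
    have hdmul : ∀ a b, d (a * b) = π (φ a) * d b + π (φ b) * d a := fun a b => by
      show _ = N.cst (f a) * d b + N.cst (f b) * d a
      simp only [d, map_mul]
      rw [(N.coord_mul _ _).2.1, (N.coord_mul _ _).2.2]; ring
    let g : A →+* (K[ε])[ε] :=
      { toFun := fun a => mkDual (φ a) (s (d a))
        map_one' := TrivSqZeroExt.ext (map_one φ) (by
          show s (d 1) = 0
          rw [hd1, map_zero])
        map_mul' := fun a b => TrivSqZeroExt.ext (by simp) (by
          simp only [DualNumber.snd_mul, fst_mkDual, snd_mkDual]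
          rw [hdmul, map_add, hsl, hsl]; ring)
        map_zero' := TrivSqZeroExt.ext (map_zero φ) (by
          show s (d 0) = 0
          rw [hd0, map_zero])
        map_add' := fun a b => TrivSqZeroExt.ext (map_add φ a b) (by
          show s (d (a + b)) = s (d a) + s (d b)
          rw [hdadd, map_add]) }
    let q : (K[ε])[ε] →ₐ[K] K[ε] :=
      (TrivSqZeroExt.fstHom K[ε] K[ε] K[ε]).restrictScalars K
    let ρ : (K[ε])[ε] →ₐ[K] K := (TrivSqZeroExt.fstHom K K K).comp q
    have hρ : IsLocalHom ρ := ⟨fun z hz =>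
      TrivSqZeroExt.isUnit_iff_isUnit_fst.mpr (TrivSqZeroExt.isUnit_iff_isUnit_fst.mpr hz)⟩
    have hgk : ∀ r, g (kA r) = algebraMap K (K[ε])[ε] (kK r) := by
      intro r
      refine TrivSqZeroExt.ext ?_ ?_
      · show N.tangent l₀ l₁ (f (kA r)) = algebraMap K K[ε] (kK r)
        rw [hk, AlgHom.commutes]
      · show s (d (kA r)) = _
        have : d (kA r) = 0 := by
          simp only [d, hk]
          rw [(N.coord_algebraMap _).2.1, (N.coord_algebraMap _).2.2]; ring
        rw [this, map_zero]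
        rfl
    have hρg : ∀ a, ρ (g a) = N.cstHom (f a) := fun a => rfl
    obtain ⟨Φ, hΦ⟩ := hlift (K[ε])[ε] ρ hρ N.cstHom N.isLocalHom_cstHom g hgk hρg
    have h1 : q.comp Φ = N.tangent l₀ l₁ := huniq _ _ _ fun a => by
      show TrivSqZeroExt.fst (Φ (f a)) = _
      rw [hΦ]
      rfl
    let p₂ : (K[ε])[ε] →ₐ[K] K[ε] :=
      { toFun := fun z => mkDual (TrivSqZeroExt.fst (TrivSqZeroExt.fst z))
          (TrivSqZeroExt.fst (TrivSqZeroExt.snd z))
        map_one' := TrivSqZeroExt.ext rfl rfl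
        map_mul' := fun z w => TrivSqZeroExt.ext (by simp) (by simp)
        map_zero' := TrivSqZeroExt.ext rfl rfl
        map_add' := fun z w => TrivSqZeroExt.ext rfl rfl
        commutes' := fun r => TrivSqZeroExt.ext rfl rfl }
    have h2 : p₂.comp Φ = N.tangent m₀ m₁ := huniq _ _ _ fun a => by
      show p₂ (Φ (f a)) = _
      rw [hΦ]
      exact TrivSqZeroExt.ext rfl (hs (d a))
    have hz : ∀ z ∈ maximalIdeal B, ∀ w ∈ maximalIdeal B,
        TrivSqZeroExt.fst (TrivSqZeroExt.fst (Φ z)) = 0 ∧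
        TrivSqZeroExt.fst (Φ z * Φ w) = 0 ∧
        TrivSqZeroExt.fst (TrivSqZeroExt.snd (Φ z * Φ w)) = 0 := by
      intro z hz w hw
      have e1 : TrivSqZeroExt.fst (TrivSqZeroExt.fst (Φ z)) = 0 :=
        (congrArg TrivSqZeroExt.fst (AlgHom.congr_fun h1 z)).trans (N.cst_eq_zero hz)
      have e2 : TrivSqZeroExt.fst (TrivSqZeroExt.fst (Φ w)) = 0 :=
        (congrArg TrivSqZeroExt.fst (AlgHom.congr_fun h1 w)).trans (N.cst_eq_zero hw)
      refine ⟨e1, TrivSqZeroExt.ext ?_ ?_, ?_⟩
      · simp [e1]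
      · simp [e1, e2]
      · simp [e1, e2]
    have hzero : ∀ z ∈ maximalIdeal B ^ 3, Φ z = 0 := by
      intro z hz3
      rw [pow_succ] at hz3
      refine Submodule.mul_induction_on hz3 (fun r hr t ht => ?_) (fun a b ha hb => by
        rw [map_add, ha, hb, add_zero])
      rw [pow_two] at hr
      refine Submodule.mul_induction_on hr (fun a ha b hb => ?_) (fun a b ha hb => by
        rw [add_mul, map_add, ha, hb, add_zero])
      obtain ⟨-, e1, e2⟩ := hz a ha b hb
      obtain ⟨e3, -, -⟩ := hz t ht t ht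
      rw [map_mul, map_mul]
      generalize Φ a * Φ b = w at e1 e2 ⊢
      refine TrivSqZeroExt.ext ?_ (TrivSqZeroExt.ext ?_ ?_)
      · simp [e1]
      · simp [e1, e2]
      · simp [e1, e2, e3]
    have huv := hzero _ N.huv
    rw [map_mul] at huv
    have key := congrArg (fun z => TrivSqZeroExt.snd (TrivSqZeroExt.snd z)) huv
    have a1 := AlgHom.congr_fun h1 N.u
    have a2 := AlgHom.congr_fun h1 N.v
    have b1 := AlgHom.congr_fun h2 N.u
    have b2 := AlgHom.congr_fun h2 N.v
    have fu : TrivSqZeroExt.fst (TrivSqZeroExt.fst (Φ N.u)) = 0 :=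
      (congrArg TrivSqZeroExt.fst a1).trans N.coord_u.1
    have fv : TrivSqZeroExt.fst (TrivSqZeroExt.fst (Φ N.v)) = 0 :=
      (congrArg TrivSqZeroExt.fst a2).trans N.coord_v.1
    have su : TrivSqZeroExt.snd (TrivSqZeroExt.fst (Φ N.u)) = l₀ :=
      (congrArg TrivSqZeroExt.snd a1).trans (by
        rw [N.snd_tangent, N.coord_u.2.1, N.coord_u.2.2]; ring)
    have sv : TrivSqZeroExt.snd (TrivSqZeroExt.fst (Φ N.v)) = l₁ :=
      (congrArg TrivSqZeroExt.snd a2).trans (by
        rw [N.snd_tangent, N.coord_v.2.1, N.coord_v.2.2]; ring)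
    have mu : TrivSqZeroExt.fst (TrivSqZeroExt.snd (Φ N.u)) = m₀ :=
      (congrArg TrivSqZeroExt.snd b1).trans (by
        rw [N.snd_tangent, N.coord_u.2.1, N.coord_u.2.2]; ring)
    have mv : TrivSqZeroExt.fst (TrivSqZeroExt.snd (Φ N.v)) = m₁ :=
      (congrArg TrivSqZeroExt.snd b2).trans (by
        rw [N.snd_tangent, N.coord_v.2.1, N.coord_v.2.2]; ring)
    simp [fu, fv, su, sv, mu, mv] at key
    linear_combination key
  rcases hl with h | h
  · exact h (by simpa using main 0 1)
  · exact h (by simpa using main 1 0)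

omit [IsLocalRing A] in
theorem snd_eq_of_fst_eq_cst (N : NodeCoords K B) (Φ : B →ₐ[K] K[ε])
    (h : ∀ b, TrivSqZeroExt.fst (Φ b) = N.cst b) (b : B) :
    TrivSqZeroExt.snd (Φ b) = TrivSqZeroExt.snd (Φ N.u) * N.α b + TrivSqZeroExt.snd (Φ N.v) * N.β b := by
  have hsq : ∀ z ∈ maximalIdeal B ^ 2, TrivSqZeroExt.snd (Φ z) = 0 := by
    intro z hz
    rw [pow_two] at hz
    refine Submodule.mul_induction_on hz (fun s hs t ht => ?_) (fun s t hs ht => by
      rw [map_add, TrivSqZeroExt.snd_add, hs, ht, add_zero])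
    rw [map_mul, DualNumber.snd_mul, h, h, N.cst_eq_zero hs, N.cst_eq_zero ht, zero_mul, mul_zero, add_zero]
  have h1 := hsq _ (N.coord_spec b)
  simp only [map_sub, map_smul, AlgHom.commutes, TrivSqZeroExt.snd_sub, TrivSqZeroExt.snd_smul, smul_eq_mul] at h1
  rw [TrivSqZeroExt.algebraMap_eq_inl', TrivSqZeroExt.snd_inl] at h1
  linear_combination h1

/-- The residue field below a node is unramified over the base field. -/
theorem formallyUnramified_of_node [Algebra k A] (N : NodeCoords K B) {f : A →+* B} [IsLocalHom f]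
    (hbc : IsBCLocal (algebraMap k A) kK f) : Algebra.FormallyUnramified k (ResidueField A) := by
  classical
  refine ⟨?_⟩
  by_contra hcon
  rw [not_subsingleton_iff_nontrivial] at hcon
  let ι : ResidueField A →+* K := Ideal.Quotient.lift _ ((N.cstHom.toRingHom).comp f) fun a ha =>
    N.cst_eq_zero (map_nonunit f a ha)
  letI : Algebra (ResidueField A) K := ι.toAlgebra
  letI : Module k K := Module.compHom K ((algebraMap k (ResidueField A)))
  haveI : IsScalarTower k (ResidueField A) K := ⟨fun r x y => by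
    show (r • x) • y = algebraMap k (ResidueField A) r • (x • y)
    rw [← mul_smul, ← Algebra.smul_def r x]⟩
  obtain ⟨ω, hω⟩ := exists_ne (0 : KaehlerDifferential k (ResidueField A))
  obtain ⟨φ, hφ⟩ : ∃ φ : KaehlerDifferential k (ResidueField A) →ₗ[ResidueField A] ResidueField A, φ ω ≠ 0 := by
    by_contra hall
    push Not at hall
    exact hω ((Module.forall_dual_apply_eq_zero_iff (ResidueField A) ω).1 hall)
  let D : Derivation k (ResidueField A) K :=
    ((Algebra.linearMap (ResidueField A) K).comp φ).compDer (KaehlerDifferential.D k (ResidueField A))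
  let g : A →+* K[ε] :=
    { toFun := fun a => mkDual (N.cst (f a)) (D (residue A a))
      map_one' := TrivSqZeroExt.ext (by simp; exact map_one N.cstHom) (by simp)
      map_mul' := fun a b => TrivSqZeroExt.ext (by simp; exact map_mul N.cstHom (f a) (f b)) (by
        simp only [DualNumber.snd_mul, fst_mkDual, snd_mkDual, map_mul, Derivation.leibniz, Algebra.smul_def]
        show N.cst (f a) * D (residue A b) + N.cst (f b) * D (residue A a) = _
        ring)
      map_zero' := TrivSqZeroExt.ext (by simp; exact map_zero N.cstHom) (by simp)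
      map_add' := fun a b => TrivSqZeroExt.ext (by simp; exact map_add N.cstHom (f a) (f b)) (by simp) }
  haveI := isLocalRing_dualNumber K
  have hρ : IsLocalHom (TrivSqZeroExt.fstHom K K K) := ⟨fun z hz => TrivSqZeroExt.isUnit_iff_isUnit_fst.mpr hz⟩
  obtain ⟨Φ, hΦ⟩ := hbc.lift K[ε] (TrivSqZeroExt.fstHom K K K) hρ N.cstHom N.isLocalHom_cstHom g (fun r => by
    refine TrivSqZeroExt.ext ?_ ?_
    · show N.cst (f (algebraMap k A r)) = _
      rw [hbc.comm, (N.coord_algebraMap _).1]
      rfl
    · show D (residue A (algebraMap k A r)) = _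
      rw [TrivSqZeroExt.algebraMap_eq_inl', TrivSqZeroExt.snd_inl]
      exact D.map_algebraMap r) (fun a => rfl)
  have hfst : (TrivSqZeroExt.fstHom K K K).comp Φ = N.cstHom := hbc.uniq _ _ _ fun a => by
    show TrivSqZeroExt.fst (Φ (f a)) = _
    rw [hΦ]; rfl
  have hfst' : ∀ b, TrivSqZeroExt.fst (Φ b) = N.cst b := fun b => AlgHom.congr_fun hfst b
  have hsnd := snd_eq_of_fst_eq_cst N Φ hfst'
  obtain ⟨h0, h1⟩ := eq_zero_of_kill N hbc (l₀ := TrivSqZeroExt.snd (Φ N.u)) (l₁ := TrivSqZeroExt.snd (Φ N.v))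
    (fun a ha => by
      rw [← hsnd, hΦ]
      show D (residue A a) = 0
      rw [(residue_eq_zero_iff a).2 ha, map_zero])
  have hD : D = 0 := Derivation.ext fun x => by
    obtain ⟨a, rfl⟩ := residue_surjective x
    show D (residue A a) = 0
    have := hsnd (f a)
    rw [hΦ, h0, h1, zero_mul, zero_mul, add_zero] at this
    exact this
  have hall : φ = 0 := by
    refine LinearMap.ext_on (KaehlerDifferential.span_range_derivation k (ResidueField A)) ?_
    rintro _ ⟨x, rfl⟩
    refine ι.injective ?_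
    show D x = _
    rw [hD]
    simp
  exact hφ (by rw [hall]; rfl)

/-- The maximal ideal below a node generates the one of the node. -/
theorem map_maximalIdeal_of_node [IsNoetherianRing B] (N : NodeCoords K B) [IsLocalHom f]
    (hbc : IsBCLocal kA kK f) : (maximalIdeal A).map f = maximalIdeal B := by
  classical
  have hle : (maximalIdeal A).map f ≤ maximalIdeal B := Ideal.map_le_iff_le_comap.2 fun a ha => map_nonunit f a ha
  have hdet : ∃ a₁ ∈ maximalIdeal A, ∃ a₂ ∈ maximalIdeal A,
      N.α (f a₁) * N.β (f a₂) - N.α (f a₂) * N.β (f a₁) ≠ 0 := by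
    by_contra h
    push Not at h
    by_cases h0 : ∀ a ∈ maximalIdeal A, N.α (f a) = 0 ∧ N.β (f a) = 0
    · exact one_ne_zero (eq_zero_of_kill N hbc (l₀ := 1) (l₁ := 0) fun a ha => by
        rw [(h0 a ha).1, (h0 a ha).2]; ring).1
    · push Not at h0
      obtain ⟨a₀, ha₀, hne⟩ := h0
      obtain ⟨e1, e2⟩ := eq_zero_of_kill N hbc (l₀ := N.β (f a₀)) (l₁ := -N.α (f a₀)) fun a ha => by
        linear_combination h a ha a₀ ha₀
      exact hne (neg_eq_zero.1 e2) e1
  obtain ⟨a₁, h1, a₂, h2, hdet⟩ := hdet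
  set Δ := N.α (f a₁) * N.β (f a₂) - N.α (f a₂) * N.β (f a₁) with hΔ
  have hc : ∀ (l₁ l₂ : K), l₁ • f a₁ + l₂ • f a₂ -
      ((l₁ * N.α (f a₁) + l₂ * N.α (f a₂)) • N.u + (l₁ * N.β (f a₁) + l₂ * N.β (f a₂)) • N.v) ∈
        maximalIdeal B ^ 2 := by
    intro l₁ l₂
    have e1 := N.coord_spec (f a₁)
    have e2 := N.coord_spec (f a₂)
    rw [N.cst_eq_zero (map_nonunit f a₁ h1), map_zero, sub_zero] at e1
    rw [N.cst_eq_zero (map_nonunit f a₂ h2), map_zero, sub_zero] at e2
    refine (congrArg (· ∈ maximalIdeal B ^ 2) ?_).mp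
      (add_mem (Submodule.smul_of_tower_mem _ l₁ e1) (Submodule.smul_of_tower_mem _ l₂ e2))
    module
  have hmem : ∀ (l₁ l₂ : K), l₁ • f a₁ + l₂ • f a₂ ∈ (maximalIdeal A).map f := fun l₁ l₂ =>
    add_mem (Submodule.smul_of_tower_mem _ l₁ (Ideal.mem_map_of_mem f h1))
      (Submodule.smul_of_tower_mem _ l₂ (Ideal.mem_map_of_mem f h2))
  have key : ∀ s t : K, s • N.u + t • N.v ∈ (maximalIdeal A).map f ⊔ maximalIdeal B ^ 2 := by
    intro s t
    let l₁ := (s * N.β (f a₂) - t * N.α (f a₂)) / Δ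
    let l₂ := (t * N.α (f a₁) - s * N.β (f a₁)) / Δ
    have hs : l₁ * N.α (f a₁) + l₂ * N.α (f a₂) = s := by
      simp only [l₁, l₂]; field_simp; rw [hΔ]; ring
    have ht : l₁ * N.β (f a₁) + l₂ * N.β (f a₂) = t := by
      simp only [l₁, l₂]; field_simp; rw [hΔ]; ring
    have h3 := hc l₁ l₂
    rw [hs, ht] at h3
    simpa using sub_mem (Ideal.mem_sup_left (T := maximalIdeal B ^ 2) (hmem l₁ l₂)) (Ideal.mem_sup_right h3)
  refine le_antisymm hle (Submodule.le_of_le_smul_of_le_jacobson_bot (IsNoetherian.noetherian _)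
    (IsLocalRing.maximalIdeal_le_jacobson _) ?_)
  intro b hb
  obtain ⟨s, t, hst⟩ := N.span b hb
  rw [smul_eq_mul, ← pow_two]
  have e : b = (b - s • N.u - t • N.v) + (s • N.u + t • N.v) := by abel
  rw [e]
  exact add_mem (Ideal.mem_sup_right hst) (key s t)

/-- Below a rational point with separable residue field, the maximal ideal generates. -/
theorem map_maximalIdeal_of_unramified [Algebra k A] [IsNoetherianRing B] {f : A →+* B} [IsLocalHom f]
    (hbc : IsBCLocal (algebraMap k A) kK f) [Algebra.FormallyUnramified k (ResidueField A)]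
    (hres : Function.Surjective (algebraMap K (ResidueField B))) :
    (maximalIdeal A).map f = maximalIdeal B := by
  let M := (maximalIdeal A).map f ⊔ maximalIdeal B ^ 2
  have hM : M ≤ maximalIdeal B := sup_le (Ideal.map_le_iff_le_comap.2 fun a ha => map_nonunit f a ha)
    (Ideal.pow_le_self two_ne_zero)
  let R := B ⧸ M
  haveI : Nontrivial R := Ideal.Quotient.nontrivial_iff.2 fun h =>
    (maximalIdeal.isMaximal B).ne_top (top_le_iff.1 (h ▸ hM))
  haveI : IsLocalRing R := IsLocalRing.of_surjective' (Ideal.Quotient.mk _) Ideal.Quotient.mk_surjective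
  let ec : K ≃ₐ[K] ResidueField B := AlgEquiv.ofBijective (Algebra.ofId K (ResidueField B))
    ⟨(algebraMap K (ResidueField B)).injective, hres⟩
  let c : B →ₐ[K] K := ec.symm.toAlgHom.comp (IsScalarTower.toAlgHom K B (ResidueField B))
  let q : B →ₐ[K] R := Ideal.Quotient.mkₐ K M
  let q' : B →ₐ[K] R := (Algebra.ofId K R).comp c
  have hc : ∀ b, b - algebraMap K B (c b) ∈ maximalIdeal B := fun b => by
    rw [← residue_eq_zero_iff, map_sub, sub_eq_zero]
    exact (ec.apply_symm_apply (residue B b)).symm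
  have hc0 : ∀ b ∈ maximalIdeal B, c b = 0 := fun b hb => by
    show ec.symm (residue B b) = 0
    rw [(residue_eq_zero_iff b).2 hb, map_zero]
  letI : Algebra k R := ((algebraMap K R).comp kK).toAlgebra
  have hqA : ∀ a ∈ maximalIdeal A, q (f a) = 0 := fun a ha =>
    Ideal.Quotient.eq_zero_iff_mem.2 (Ideal.mem_sup_left (Ideal.mem_map_of_mem f ha))
  have hq'A : ∀ a ∈ maximalIdeal A, q' (f a) = 0 := fun a ha => by
    show algebraMap K R (c (f a)) = 0
    rw [hc0 _ (map_nonunit f a ha), map_zero]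
  let g : ResidueField A →ₐ[k] R :=
    { Ideal.Quotient.lift _ (q.toRingHom.comp f) hqA with
      commutes' := fun r => by
        show q (f (algebraMap k A r)) = _
        rw [hbc.comm, AlgHom.commutes]; rfl }
  let g' : ResidueField A →ₐ[k] R :=
    { Ideal.Quotient.lift _ (q'.toRingHom.comp f) hq'A with
      commutes' := fun r => by
        show q' (f (algebraMap k A r)) = _
        rw [hbc.comm, AlgHom.commutes]; rfl }
  have hgg : g = g' := by
    refine Algebra.FormallyUnramified.ext ((maximalIdeal B).map (Ideal.Quotient.mk M)) ⟨2, ?_⟩ fun x => ?_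
    · rw [← Ideal.map_pow, Ideal.zero_eq_bot, Ideal.map_eq_bot_iff_le_ker, Ideal.mk_ker]
      exact le_sup_right
    · obtain ⟨a, rfl⟩ := residue_surjective x
      show Ideal.Quotient.mk _ (q (f a)) = Ideal.Quotient.mk _ (q' (f a))
      rw [Ideal.Quotient.eq]
      show Ideal.Quotient.mk M (f a) - algebraMap K R (c (f a)) ∈ _
      rw [show algebraMap K R (c (f a)) = Ideal.Quotient.mk M (algebraMap K B (c (f a))) from rfl, ← map_sub]
      exact Ideal.mem_map_of_mem _ (hc _)
  have hqq : q = q' := hbc.uniq R q q' fun a => AlgHom.congr_fun hgg (residue A a)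
  refine le_antisymm (Ideal.map_le_iff_le_comap.2 fun a ha => map_nonunit f a ha)
    (Submodule.le_of_le_smul_of_le_jacobson_bot (IsNoetherian.noetherian _)
      (IsLocalRing.maximalIdeal_le_jacobson _) ?_)
  intro b hb
  rw [smul_eq_mul, ← pow_two]
  have := AlgHom.congr_fun hqq b
  rw [show q' b = algebraMap K R (c b) from rfl, hc0 b hb, map_zero] at this
  exact Ideal.Quotient.eq_zero_iff_mem.1 this

end Groth.Agent.Node12
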