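import Groth.Agent.Node12.Algebra
import Groth.Agent.Node12.Tangent
import Groth.Agent.Curves2.NodePoint
import Groth.Agent.Crv77.PointDeg
import Mathlib.RingTheory.Unramified.Field
import Mathlib.RingTheory.Unramified.Finite

/-!
# The criterion for a node of a scheme over a field
-/

set_option autoImplicit false
set_option linter.style.haveILetI false
set_option maxHeartbeats 1600000
set_option synthInstance.maxHeartbeats 100000
set_option backward.isDefEq.respectTransparency.types false

universe u

open CategoryTheory Limits AlgebraicGeometry IsLocalRing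

noncomputable section

namespace Groth.Agent.Node12

variable {k : Type u} [Field k] {X : Scheme.{u}} [X.Over (Spec (CommRingCat.of k))]

/-- The local ring at a point is essentially of finite type over the base field. -/
theorem essFiniteType_stalkMap [LocallyOfFiniteType (X ↘ Spec (CommRingCat.of k))] (x : X) :
    (Curv2.stalkMap k X x).EssFiniteType := by
  let S := Spec (CommRingCat.of k)
  let f := X ↘ S
  let g₀ : k →+* S.presheaf.stalk (f x) :=
    (S.presheaf.germ ⊤ (f x) trivial).hom.comp (Scheme.ΓSpecIso (CommRingCat.of k)).inv.hom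
  have hg₀ : Function.Surjective g₀ := by
    let iA : Algebra (CommRingCat.of k) (S.presheaf.stalk (f x)) :=
      StructureSheaf.stalkAlgebra (CommRingCat.of k) (f x)
    have hloc : IsLocalization.AtPrime (S.presheaf.stalk (f x)) (f x).asIdeal :=
      StructureSheaf.IsLocalization.to_stalk (CommRingCat.of k) (f x)
    intro t
    obtain ⟨a, s, rfl⟩ := IsLocalization.exists_mk'_eq (f x).asIdeal.primeCompl t
    have hs : (show k from s.1) ≠ 0 := fun h => s.2 (by
      have h' : (s.1 : CommRingCat.of k) = 0 := h
      rw [h']; exact zero_mem _)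
    refine ⟨(show k from a) * (show k from s.1)⁻¹, ?_⟩
    rw [IsLocalization.eq_mk'_iff_mul_eq]
    have e : ((show k from a) * (show k from s.1)⁻¹) * (show k from s.1) = (show k from a) := by
      rw [mul_assoc, inv_mul_cancel₀ hs, mul_one]
    show g₀ _ * g₀ (show k from s.1) = g₀ (show k from a)
    rw [← map_mul, e]
  have hcomp : Curv2.stalkMap k X x = (f.stalkMap x).hom.comp g₀ := by
    have h := Scheme.Hom.germ_stalkMap f ⊤ x trivial
    ext r
    exact (RingHom.congr_fun (congrArg CommRingCat.Hom.hom h) ((Scheme.ΓSpecIso (CommRingCat.of k)).inv r)).symm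
  rw [hcomp]
  refine RingHom.EssFiniteType.comp ?_ (LocallyOfFiniteType.stalkMap f x)
  algebraize [g₀]
  have : Algebra.FiniteType k (S.presheaf.stalk (f x)) := Algebra.FiniteType.of_surjective (Algebra.ofId k _) hg₀
  exact (inferInstance : Algebra.EssFiniteType k (S.presheaf.stalk (f x)))

attribute [local instance] Curv2.stalkAlgebra

theorem essFiniteType_residueField [LocallyOfFiniteType (X ↘ Spec (CommRingCat.of k))] (x : X) :
    Algebra.EssFiniteType k (ResidueField (X.presheaf.stalk x)) := by
  have : Algebra.EssFiniteType k (X.presheaf.stalk x) := essFiniteType_stalkMap x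
  have : Algebra.EssFiniteType (X.presheaf.stalk x) (ResidueField (X.presheaf.stalk x)) :=
    (inferInstance : Algebra.EssFiniteType (X.presheaf.stalk x) (X.presheaf.stalk x ⧸ maximalIdeal (X.presheaf.stalk x)))
  exact Algebra.EssFiniteType.comp k (X.presheaf.stalk x) _

theorem isClosed_of_finite [LocallyOfFiniteType (X ↘ Spec (CommRingCat.of k))] (x : X)
    [Module.Finite k (ResidueField (X.presheaf.stalk x))] : IsClosed ({x} : Set X) := by
  have : JacobsonSpace X := LocallyOfFiniteType.jacobsonSpace (X ↘ Spec (CommRingCat.of k))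
  rw [isClosed_singleton_iff_locallyOfFiniteType]
  have e : X.fromSpecResidueField x ≫ (X ↘ Spec (CommRingCat.of k)) =
      Spec.map (CommRingCat.ofHom (Curv2.resMap k X x)) := by
    rw [Scheme.fromSpecResidueField, Category.assoc, Curves2.fromSpecStalk_struct, ← Spec.map_comp]
    rfl
  have : LocallyOfFiniteType (X.fromSpecResidueField x ≫ (X ↘ Spec (CommRingCat.of k))) := by
    rw [e, HasRingHomProperty.Spec_iff (P := @LocallyOfFiniteType)]
    exact RingHom.FiniteType.of_finite (f := algebraMap k (ResidueField (X.presheaf.stalk x)))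
      (RingHom.finite_algebraMap.2 inferInstance)
  exact locallyOfFiniteType_of_comp _ (X ↘ Spec (CommRingCat.of k))

variable {K : Type u} [Field K] [Algebra k K] {Z : Scheme.{u}} [Z.Over (Spec (CommRingCat.of K))] {p : Z ⟶ X}

/-- The local ring of a base change has the universal property. -/
theorem isBCLocal_of_isPullback
    (hsq : IsPullback p (Z ↘ Spec (CommRingCat.of K)) (X ↘ Spec (CommRingCat.of k))
      (Spec.map (CommRingCat.ofHom (algebraMap k K)))) (z : Z) :
    IsBCLocal (algebraMap k (X.presheaf.stalk (p z))) (algebraMap k K) (p.stalkMap z).hom := by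
  have hsq' : Spec.map (p.stalkMap z) ≫ X.fromSpecStalk _ = Z.fromSpecStalk z ≫ p :=
    Scheme.SpecMap_stalkMap_fromSpecStalk _
  have hsnd : Z.fromSpecStalk z ≫ (Z ↘ Spec (CommRingCat.of K)) =
      Spec.map (CommRingCat.ofHom (algebraMap K (Z.presheaf.stalk z))) :=
    Curves2.fromSpecStalk_struct _ z
  have hX : X.fromSpecStalk (p z) ≫ (X ↘ Spec (CommRingCat.of k)) =
      Spec.map (CommRingCat.ofHom (algebraMap k (X.presheaf.stalk (p z)))) :=
    Curves2.fromSpecStalk_struct _ _
  refine ⟨?_, ?_, ?_⟩
  · intro r
    have h1 : Spec.map (CommRingCat.ofHom (algebraMap k (X.presheaf.stalk (p z))) ≫ p.stalkMap z) =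
        Spec.map (CommRingCat.ofHom (algebraMap k K) ≫
          CommRingCat.ofHom (algebraMap K (Z.presheaf.stalk z))) := by
      rw [Spec.map_comp, Spec.map_comp, ← hX, ← hsnd, ← Category.assoc, hsq', Category.assoc,
        Category.assoc, hsq.w]
    exact RingHom.congr_fun (congrArg CommRingCat.Hom.hom (Spec.map_injective h1)) r
  · intro R _ _ _ ρ hρ c hc g hgk hρg
    have hcond : (Spec.map (CommRingCat.ofHom g) ≫ X.fromSpecStalk _) ≫ (X ↘ Spec (CommRingCat.of k)) =
        Spec.map (CommRingCat.ofHom (algebraMap K R)) ≫ Spec.map (CommRingCat.ofHom (algebraMap k K)) := by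
      rw [Category.assoc, hX, ← Spec.map_comp, ← Spec.map_comp]
      congr 1
      exact CommRingCat.hom_ext (RingHom.ext hgk)
    let h : Spec (CommRingCat.of R) ⟶ Z := hsq.lift _ _ hcond
    have hpt : Spec.map (CommRingCat.ofHom (ρ : R →+* K)) ≫ h =
        Spec.map (CommRingCat.ofHom c.toRingHom) ≫ Z.fromSpecStalk z := by
      refine hsq.hom_ext ?_ ?_
      · rw [Category.assoc, hsq.lift_fst, ← Category.assoc, ← Spec.map_comp, Category.assoc, ← hsq',
          ← Category.assoc, ← Spec.map_comp]
        congr 2
        exact CommRingCat.hom_ext (RingHom.ext hρg)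
      · rw [Category.assoc, hsq.lift_snd, ← Spec.map_comp, Category.assoc, hsnd, ← Spec.map_comp]
        congr 1
        exact CommRingCat.hom_ext (RingHom.ext fun t => (ρ.commutes t).trans (c.commutes t).symm)
    have : IsLocalHom (CommRingCat.ofHom (ρ : R →+* K)).hom := ⟨fun t ht => hρ.map_nonunit t ht⟩
    have : IsLocalHom (CommRingCat.ofHom c.toRingHom).hom := ⟨fun t ht => hc.map_nonunit t ht⟩
    have hclosed : h (closedPoint R) = z := by
      have h1 := congrArg (fun F : Spec (CommRingCat.of K) ⟶ _ => F (closedPoint K)) hpt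
      have e1 := Spec_closedPoint (R := CommRingCat.of R) (S := CommRingCat.of K)
        (f := CommRingCat.ofHom (ρ : R →+* K))
      have e2 := Spec_closedPoint (R := Z.presheaf.stalk z) (S := CommRingCat.of K)
        (f := CommRingCat.ofHom c.toRingHom)
      rw [← Scheme.fromSpecStalk_closedPoint (x := z)]
      rw [← e2, ← e1]
      exact h1
    obtain ⟨φ, hφ⟩ := Curves2.exists_stalkHom_of_point h hclosed
    have hcomm : CommRingCat.ofHom (algebraMap K (Z.presheaf.stalk z)) ≫ φ =
        CommRingCat.ofHom (algebraMap K R) := by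
      apply Spec.map_injective
      rw [Spec.map_comp, ← hsnd, ← Category.assoc, hφ]
      exact hsq.lift_snd _ _ _
    refine ⟨{ φ.hom with
      commutes' := fun t => RingHom.congr_fun (congrArg CommRingCat.Hom.hom hcomm) t }, fun a => ?_⟩
    have h1 : p.stalkMap z ≫ φ = CommRingCat.ofHom g := by
      apply Spec.map_injective
      rw [← cancel_mono (X.fromSpecStalk _), Spec.map_comp, Category.assoc, hsq', ← Category.assoc, hφ]
      exact hsq.lift_fst _ _ _
    exact RingHom.congr_fun (congrArg CommRingCat.Hom.hom h1) a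
  · intro R _ _ _ Φ Φ' hΦ
    suffices Spec.map (CommRingCat.ofHom Φ.toRingHom) = Spec.map (CommRingCat.ofHom Φ'.toRingHom) from
      AlgHom.coe_ringHom_injective (congrArg CommRingCat.Hom.hom (Spec.map_injective this))
    rw [← cancel_mono (Z.fromSpecStalk z)]
    refine hsq.hom_ext ?_ ?_
    · simp only [Category.assoc]
      rw [← hsq', ← Category.assoc, ← Category.assoc, ← Spec.map_comp, ← Spec.map_comp]
      congr 2
      exact CommRingCat.hom_ext (RingHom.ext hΦ)
    · simp only [Category.assoc]
      rw [hsnd, ← Spec.map_comp, ← Spec.map_comp]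
      congr 1
      exact CommRingCat.hom_ext (RingHom.ext fun t => (Φ.commutes t).trans (Φ'.commutes t).symm)

theorem flat_of_isPullback
    (hsq : IsPullback p (Z ↘ Spec (CommRingCat.of K)) (X ↘ Spec (CommRingCat.of k))
      (Spec.map (CommRingCat.ofHom (algebraMap k K)))) : Flat p := by
  have : Flat (Spec.map (CommRingCat.ofHom (algebraMap k K))) := by
    rw [HasRingHomProperty.Spec_iff (P := @Flat)]
    exact RingHom.flat_algebraMap_iff.mpr inferInstance
  exact MorphismProperty.of_isPullback (P := @Flat) hsq.flip this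

/-- An ordinary double point lies over a closed quadratic point with separable residue field. -/
theorem of_isOrdDoublePt [LocallyOfFiniteType (X ↘ Spec (CommRingCat.of k))]
    (hsq : IsPullback p (Z ↘ Spec (CommRingCat.of K)) (X ↘ Spec (CommRingCat.of k))
      (Spec.map (CommRingCat.ofHom (algebraMap k K)))) (z : Z) (h : Curv2.IsOrdDoublePt K (Z.presheaf.stalk z)) :
    IsClosed ({p z} : Set X) ∧ Algebra.IsSeparable k (ResidueField (X.presheaf.stalk (p z))) ∧
      IsQuadPt (X.presheaf.stalk (p z)) ∧ _root_.IsReduced (X.presheaf.stalk (p z)) := by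
  have : LocallyOfFiniteType (Z ↘ Spec (CommRingCat.of K)) :=
    MorphismProperty.of_isPullback (P := @LocallyOfFiniteType) hsq ‹_›
  have : IsLocallyNoetherian Z := LocallyOfFiniteType.isLocallyNoetherian (Z ↘ Spec (CommRingCat.of K))
  have : IsLocallyNoetherian X := LocallyOfFiniteType.isLocallyNoetherian (X ↘ Spec (CommRingCat.of k))
  obtain ⟨N⟩ := Curves2.nonempty_nodeCoords h
  have hbc := isBCLocal_of_isPullback hsq z
  have := formallyUnramified_of_node N hbc
  have := essFiniteType_residueField (k := k) (p z)
  have hm := map_maximalIdeal_of_node N hbc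
  have : Module.Finite k (ResidueField (X.presheaf.stalk (p z))) := Algebra.FormallyUnramified.finite_of_free k _
  obtain ⟨hQ, hred⟩ := isQuadPt_of_isOrdDoublePt h
  have := flat_of_isPullback hsq
  have := Flat.stalkMap p z
  algebraize [(p.stalkMap z).hom]
  have : IsLocalHom (algebraMap (X.presheaf.stalk (p z)) (Z.presheaf.stalk z)) :=
    ⟨fun a ha => isUnit_of_map_unit (p.stalkMap z).hom a ha⟩
  have : Module.FaithfullyFlat (X.presheaf.stalk (p z)) (Z.presheaf.stalk z) :=
    Module.FaithfullyFlat.of_flat_of_isLocalHom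
  have : _root_.IsReduced (X.presheaf.stalk (p z)) :=
    isReduced_of_injective _ (FaithfulSMul.algebraMap_injective (X.presheaf.stalk (p z)) (Z.presheaf.stalk z))
  exact ⟨isClosed_of_finite (k := k) (p z),
    Algebra.FormallyUnramified.isSeparable k (ResidueField (X.presheaf.stalk (p z))), hQ.of_map hm, this⟩

/-- Over a closed quadratic point with separable residue field all points are ordinary double points. -/
theorem isOrdDoublePt_of [IsAlgClosed K] [LocallyOfFiniteType (X ↘ Spec (CommRingCat.of k))]
    (hsq : IsPullback p (Z ↘ Spec (CommRingCat.of K)) (X ↘ Spec (CommRingCat.of k))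
      (Spec.map (CommRingCat.ofHom (algebraMap k K)))) (z : Z)
    [Algebra.IsSeparable k (ResidueField (X.presheaf.stalk (p z)))] (hQ : IsQuadPt (X.presheaf.stalk (p z)))
    (hz : IsClosed ({z} : Set Z)) : Curv2.IsOrdDoublePt K (Z.presheaf.stalk z) := by
  have : LocallyOfFiniteType (Z ↘ Spec (CommRingCat.of K)) :=
    MorphismProperty.of_isPullback (P := @LocallyOfFiniteType) hsq ‹_›
  have : IsLocallyNoetherian Z := LocallyOfFiniteType.isLocallyNoetherian (Z ↘ Spec (CommRingCat.of K))
  have hres : Function.Surjective (algebraMap K (ResidueField (Z.presheaf.stalk z))) :=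
    (Crv77.resMap_bijective K hz).2
  have := flat_of_isPullback hsq
  have := Flat.stalkMap p z
  have := essFiniteType_residueField (k := k) (p z)
  have : Algebra.FormallyUnramified k (ResidueField (X.presheaf.stalk (p z))) :=
    Algebra.FormallyUnramified.of_isSeparable k _
  have hm := map_maximalIdeal_of_unramified (isBCLocal_of_isPullback hsq z) hres
  algebraize [(p.stalkMap z).hom]
  have : IsLocalHom (algebraMap (X.presheaf.stalk (p z)) (Z.presheaf.stalk z)) :=
    ⟨fun a ha => isUnit_of_map_unit (p.stalkMap z).hom a ha⟩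
  exact (hQ.map hm).isOrdDoublePt hres

/-- Points of a base change over a closed point are closed. -/
theorem isClosed_singleton_of_isPullback [LocallyOfFiniteType (X ↘ Spec (CommRingCat.of k))]
    (hsq : IsPullback p (Z ↘ Spec (CommRingCat.of K)) (X ↘ Spec (CommRingCat.of k))
      (Spec.map (CommRingCat.ofHom (algebraMap k K)))) (z : Z) (hx : IsClosed ({p z} : Set X)) :
    IsClosed ({z} : Set Z) := by
  have : IsClosedImmersion (X.fromSpecResidueField (p z)) := isClosed_singleton_iff_isClosedImmersion.1 hx
  have : JacobsonSpace X := LocallyOfFiniteType.jacobsonSpace (X ↘ Spec (CommRingCat.of k))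
  let W := pullback p (X.fromSpecResidueField (p z))
  have hW : IsPullback (pullback.snd p (X.fromSpecResidueField (p z))) (pullback.fst p _ ≫ (Z ↘ Spec (CommRingCat.of K)))
      (X.fromSpecResidueField (p z) ≫ (X ↘ Spec (CommRingCat.of k))) (Spec.map (CommRingCat.ofHom (algebraMap k K))) :=
    (IsPullback.of_hasPullback p (X.fromSpecResidueField (p z))).flip.paste_vert hsq
  have : IsFinite (X.fromSpecResidueField (p z) ≫ (X ↘ Spec (CommRingCat.of k))) :=
    isFinite_iff_locallyOfFiniteType_of_jacobsonSpace.2 inferInstance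
  have hfin : IsFinite (pullback.fst p _ ≫ (Z ↘ Spec (CommRingCat.of K)) : W ⟶ _) :=
    MorphismProperty.of_isPullback (P := @IsFinite) hW ‹_›
  have : JacobsonSpace W := LocallyOfFiniteType.jacobsonSpace (pullback.fst p _ ≫ (Z ↘ Spec (CommRingCat.of K)))
  have : Finite W := by
    have h1 := Scheme.Hom.finite_preimage_singleton
      (pullback.fst p (X.fromSpecResidueField (p z)) ≫ (Z ↘ Spec (CommRingCat.of K))) (closedPoint K)
    refine Set.finite_univ_iff.1 (h1.subset fun w _ => ?_)
    exact Subsingleton.elim _ _
  have : DiscreteTopology W := inferInstance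
  obtain ⟨w, hw⟩ : ∃ w : W, (pullback.fst p (X.fromSpecResidueField (p z))) w = z := by
    have h1 : z ∈ Set.range (pullback.fst p (X.fromSpecResidueField (p z))) := by
      rw [Scheme.Pullback.range_fst]
      exact Set.mem_preimage.2 (by rw [Scheme.range_fromSpecResidueField]; rfl)
    exact h1
  rw [← hw, ← Set.image_singleton]
  exact (pullback.fst p (X.fromSpecResidueField (p z))).isClosedEmbedding.isClosedMap _ (isClosed_discrete _)

/-- **Nodes are closed quadratic points with separable residue field.** -/
theorem isNode_iff [LocallyOfFiniteType (X ↘ Spec (CommRingCat.of k))] (x : X) :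
    Curv2.IsNode k X x ↔
      IsClosed ({x} : Set X) ∧ Algebra.IsSeparable k (ResidueField (X.presheaf.stalk x)) ∧
        IsQuadPt (X.presheaf.stalk x) := by
  let Ω := AlgebraicClosure k
  let : (Curv2.bc k X Ω).Over (Spec (CommRingCat.of Ω)) := ⟨Curv2.bcSnd k X Ω⟩
  have hsq : IsPullback (Curv2.bcFst k X Ω) ((Curv2.bc k X Ω) ↘ Spec (CommRingCat.of Ω))
      (X ↘ Spec (CommRingCat.of k)) (Spec.map (CommRingCat.ofHom (algebraMap k Ω))) :=
    IsPullback.of_hasPullback _ _
  constructor
  · rintro ⟨hx, xb, rfl, hodp⟩
    obtain ⟨-, hsep, hQ, -⟩ := of_isOrdDoublePt hsq xb hodp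
    exact ⟨hx, hsep, hQ⟩
  · rintro ⟨hx, hsep, hQ⟩
    have : Surjective (Spec.map (CommRingCat.ofHom (algebraMap k Ω))) :=
      ⟨fun s => ⟨closedPoint Ω, Subsingleton.elim _ _⟩⟩
    obtain ⟨xb, rfl⟩ := (Curv2.bcFst k X Ω).surjective x
    exact ⟨hx, xb, rfl, isOrdDoublePt_of hsq xb hQ (isClosed_singleton_of_isPullback hsq xb hx)⟩

end Groth.Agent.Node12
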