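import Groth.Agent.Node12.Completion
import Mathlib.RingTheory.Etale.Field
import Mathlib.RingTheory.Ideal.Cotangent
import Mathlib.Algebra.Module.SpanRankOperations
import Mathlib.FieldTheory.IsAlgClosed.Basic
import Groth.Prelude.Def_CurvBase

/-!
# Nodes of local algebras over a field
-/

set_option autoImplicit false
set_option linter.style.haveILetI false
set_option maxHeartbeats 1600000
set_option synthInstance.maxHeartbeats 100000
set_option backward.isDefEq.respectTransparency.types false

universe u

open IsLocalRing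

noncomputable section

namespace Groth.Agent.Node12

variable {k : Type u} [Field k] {A : Type u} [CommRing A] [IsLocalRing A] [IsNoetherianRing A] [Algebra k A]

/-- The completion of a quadratic point with separable residue field, compatibly with the base field. -/
theorem IsQuadPt.completion_equiv_algebra (h : IsQuadPt A) [Algebra.IsSeparable k (ResidueField A)] :
    ∃ a b c : ResidueField A, 4 * a * c - b ^ 2 ≠ 0 ∧
      ∃ e : AdicCompletion (maximalIdeal A) A ≃+* (MvPowerSeries (Fin 2) (ResidueField A) ⧸ quadIdeal (ResidueField A) a b c),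
        ∀ t : k, e (algebraMap A _ (algebraMap k A t)) =
          Ideal.Quotient.mk _ (MvPowerSeries.C (algebraMap A (ResidueField A) (algebraMap k A t))) := by
  let B := AdicCompletion (maximalIdeal A) A
  haveI : IsAdicComplete (maximalIdeal B) B := Cohen12.isAdicComplete_completion A
  haveI : Algebra.FormallyEtale k (ResidueField A) := Algebra.FormallyEtale.of_isSeparable k (ResidueField A)
  let f₀ : ResidueField A →+* B ⧸ maximalIdeal B := Ideal.Quotient.lift _
    ((Ideal.Quotient.mk (maximalIdeal B)).comp (algebraMap A B)) fun a ha =>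
    Ideal.Quotient.eq_zero_iff_mem.2 (AdicCompletion.maximalIdeal_eq_map (R := A) ▸ Ideal.mem_map_of_mem _ ha)
  let f : ResidueField A →ₐ[k] B ⧸ maximalIdeal B := { f₀ with commutes' := fun t => rfl }
  obtain ⟨g, hg⟩ := Cohen12.exists_lift_complete (maximalIdeal B) f
  have hσ : Function.Surjective ((residue B).comp g.toRingHom) := fun z => by
    obtain ⟨z, rfl⟩ := residue_surjective z
    obtain ⟨a, ha⟩ := Cohen12.exists_sub_mem_pow A 1 z
    rw [pow_one] at ha
    refine ⟨residue A a, ?_⟩
    refine (hg (residue A a)).trans ?_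
    exact (Ideal.Quotient.eq.2 ha).symm
  obtain ⟨a, b, c, hd, E, hE⟩ := h.completion_equiv g.toRingHom hσ
  refine ⟨a, b, c, hd, E, fun t => ?_⟩
  rw [← hE]
  exact congrArg E (g.commutes t).symm

/-- A quadratic point over an algebraically closed field is an ordinary double point. -/
theorem IsQuadPt.isOrdDoublePt (h : IsQuadPt A) [IsAlgClosed k]
    (hres : Function.Surjective (algebraMap k (ResidueField A))) : Curv2.IsOrdDoublePt k A := by
  let B := AdicCompletion (maximalIdeal A) A
  haveI : IsNoetherianRing B := Cohen12.isNoetherianRing_completion A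
  haveI : IsAdicComplete (maximalIdeal B) B := Cohen12.isAdicComplete_completion A
  haveI : Module.Flat A B := AdicCompletion.flat_of_isNoetherian _
  haveI : IsLocalHom (algebraMap A B) :=
    ((IsLocalRing.local_hom_TFAE _).out 2 0 rfl rfl).mp AdicCompletion.maximalIdeal_eq_map.symm.le
  let σ : k →+* B := (algebraMap A B).comp (algebraMap k A)
  have hσ : Function.Surjective ((residue B).comp σ) := fun z => by
    obtain ⟨z, rfl⟩ := residue_surjective z
    obtain ⟨a, ha⟩ := Cohen12.exists_sub_mem_pow A 1 z
    rw [pow_one] at ha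
    obtain ⟨t, ht⟩ := hres (residue A a)
    refine ⟨t, ?_⟩
    have h1 : a - algebraMap k A t ∈ maximalIdeal A := by
      rw [← residue_eq_zero_iff, map_sub, ← ht]
      exact sub_self _
    have h2 : algebraMap A B (a - algebraMap k A t) ∈ maximalIdeal B :=
      AdicCompletion.maximalIdeal_eq_map (R := A) ▸ Ideal.mem_map_of_mem _ h1
    rw [map_sub] at h2
    rw [RingHom.comp_apply, eq_comm, ← sub_eq_zero, ← map_sub, residue_eq_zero_iff]
    convert add_mem ha h2 using 1; simp [σ, B]
  obtain ⟨a, b, c, hd, E, hE⟩ := h.completion_equiv σ hσ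
  let C := MvPowerSeries (Fin 2) k ⧸ quadIdeal k a b c
  obtain ⟨-, -, -, -, -, -, -, -, hpr, e, hem, he⟩ := h.map (B := B) AdicCompletion.maximalIdeal_eq_map.symm
  have hmk : ∀ g : MvPowerSeries (Fin 2) k, ∃ z : B, E z = Ideal.Quotient.mk _ g := fun g => E.surjective _
  obtain ⟨x, hx⟩ := hmk (MvPowerSeries.X 0)
  obtain ⟨y, hy⟩ := hmk (MvPowerSeries.X 1)
  haveI : IsLocalRing C := E.isLocalRing
  have hm : maximalIdeal B = Ideal.span {x, y} := by
    have h1 : maximalIdeal C = Ideal.span {E x, E y} := by
      rw [hx, hy, ← IsLocalRing.map_maximalIdeal_of_surjective _ Ideal.Quotient.mk_surjective,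
        CAlg6.maximalIdeal_eq_span_X, Ideal.map_span, ← Set.range_comp]
      congr 1
      ext t
      simp [Set.mem_range, Fin.exists_fin_two, eq_comm]
    rw [← IsLocalRing.map_maximalIdeal_of_surjective E.symm.toRingHom E.symm.surjective, h1, Ideal.map_span,
      Set.image_pair]
    simp
    rfl
  have hq : σ a * x ^ 2 + σ b * x * y + σ c * y ^ 2 = 0 := E.injective (by
    simp only [map_add, map_mul, map_pow, map_zero, hE, hx, hy]
    rw [← map_pow, ← map_pow, ← map_mul, ← map_mul, ← map_mul, ← map_mul, ← map_add, ← map_add]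
    exact Ideal.Quotient.eq_zero_iff_mem.2 (Ideal.mem_span_singleton_self _))
  obtain ⟨u, v, huv, huv0⟩ : ∃ u v : B, maximalIdeal B = Ideal.span {u, v} ∧ u * v = 0 := by
    by_cases ha : a = 0
    · subst ha
      have hb : b ≠ 0 := fun hb => hd (by rw [hb]; ring)
      refine ⟨σ b * x + σ c * y, y, hm.trans ?_, by rw [← hq, map_zero]; ring⟩
      have hinv : σ b⁻¹ * σ b = 1 := by rw [← map_mul, inv_mul_cancel₀ hb, map_one]
      refine le_antisymm (Ideal.span_le.2 ?_) (Ideal.span_le.2 ?_)
      · rintro t (rfl | rfl) <;> rw [SetLike.mem_coe, Ideal.mem_span_pair]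
        · exact ⟨σ b⁻¹, -(σ b⁻¹ * σ c), by linear_combination t * hinv⟩
        · exact ⟨0, 1, by ring⟩
      · rintro t (rfl | rfl) <;> rw [SetLike.mem_coe, Ideal.mem_span_pair]
        · exact ⟨σ b, σ c, rfl⟩
        · exact ⟨0, 1, by ring⟩
    · obtain ⟨α, hα⟩ := IsAlgClosed.exists_root
        (Polynomial.C a * Polynomial.X ^ 2 + Polynomial.C b * Polynomial.X + Polynomial.C c)
        (by rw [Polynomial.degree_quadratic ha]; decide)
      simp only [Polynomial.IsRoot, Polynomial.eval_add, Polynomial.eval_mul, Polynomial.eval_C, Polynomial.eval_pow,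
        Polynomial.eval_X] at hα
      let β := -b / a - α
      have hs : b = -a * (α + β) := by simp only [β]; field_simp; ring
      have hp : c = a * α * β := by linear_combination hα - α * hs
      have hne : a * (α - β) ≠ 0 := fun h0 => hd (by
        have : α = β := sub_eq_zero.1 ((mul_eq_zero.1 h0).resolve_left ha)
        rw [hs, hp, this]; ring)
      refine ⟨σ a * (x - σ α * y), x - σ β * y, hm.trans ?_, by rw [← hq, hs, hp]; simp only [map_mul, map_neg, map_add]; ring⟩
      have hinv : σ (a * (α - β))⁻¹ * (σ a * (σ α - σ β)) = 1 := by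
        rw [← map_sub, ← map_mul, ← map_mul, inv_mul_cancel₀ hne, map_one]
      refine le_antisymm (Ideal.span_le.2 ?_) (Ideal.span_le.2 ?_)
      · rintro t (rfl | rfl) <;> rw [SetLike.mem_coe, Ideal.mem_span_pair]
        · exact ⟨-(σ (a * (α - β))⁻¹ * σ β), σ (a * (α - β))⁻¹ * σ a * σ α, by linear_combination t * hinv⟩
        · exact ⟨-σ (a * (α - β))⁻¹, σ (a * (α - β))⁻¹ * σ a, by linear_combination t * hinv⟩
      · rintro t (rfl | rfl) <;> rw [SetLike.mem_coe, Ideal.mem_span_pair]
        · exact ⟨σ a, -(σ a * σ α), by ring⟩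
        · exact ⟨1, -σ β, by ring⟩
  obtain ⟨E', hE', -⟩ := exists_equiv_of_relation σ hσ huv (a := 0) (b := 1) (c := 0)
    (by norm_num) (by simp [huv0]) hpr hem he
  have hI : quadIdeal k (0 : k) 1 0 = Ideal.span {(MvPowerSeries.X 0 * MvPowerSeries.X 1 : MvPowerSeries (Fin 2) k)} := by
    simp [quadIdeal]
  refine ⟨E'.trans (Ideal.quotEquivOfEq hI), fun t => ?_⟩
  show Ideal.quotEquivOfEq hI (E' (σ t)) = _
  rw [hE', Ideal.quotEquivOfEq_mk]

omit [Algebra k A] in
/-- An ordinary double point is a reduced quadratic point with residue field the base field. -/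
theorem isQuadPt_of_isOrdDoublePt {K : Type u} [Field K] [Algebra K A] (h : Curv2.IsOrdDoublePt K A) :
    IsQuadPt A ∧ IsReduced A := by
  obtain ⟨e, -⟩ := h
  have hI : quadIdeal K (0 : K) 1 0 = Ideal.span {(MvPowerSeries.X 0 * MvPowerSeries.X 1 : MvPowerSeries (Fin 2) K)} := by
    simp [quadIdeal]
  exact isQuadPt_of_completion_equiv (a := 0) (b := 1) (c := 0) (by norm_num)
    (e.trans (Ideal.quotEquivOfEq hI).symm)

omit [Algebra k A] in
theorem IsQuadPt.finrank_cotangent (h : IsQuadPt A) :
    Module.finrank (ResidueField A) (CotangentSpace A) = 2 := by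
  obtain ⟨x, y, -, -, -, hm, -, -, hpr, -⟩ := h
  refine le_antisymm ?_ ?_
  · rw [← spanFinrank_maximalIdeal_eq_finrank_cotangentSpace, hm]
    exact (Submodule.spanFinrank_span_le_ncard_of_finite (Set.toFinite _)).trans
      ((Set.ncard_insert_le _ _).trans (by rw [Set.ncard_singleton]))
  · by_contra hcon
    obtain ⟨g, hg⟩ := (finrank_cotangentSpace_le_one_iff.1 (by omega :
      Module.finrank (ResidueField A) (CotangentSpace A) ≤ 1)).principal
    exact hpr g hg

omit [Algebra k A] in
/-- The intrinsic criterion for a quadratic point in a reduced local ring. -/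
theorem isQuadPt_of_cotangent [IsReduced A] (h2 : Module.finrank (ResidueField A) (CotangentSpace A) = 2)
    {x y a b c : A} (hxy : Ideal.span {x, y} ⊔ maximalIdeal A ^ 2 = maximalIdeal A)
    (hd : residue A (4 * a * c - b ^ 2) ≠ 0) (hq : a * x ^ 2 + b * x * y + c * y ^ 2 ∈ maximalIdeal A ^ 3) :
    IsQuadPt A := by
  have hm : maximalIdeal A = Ideal.span {x, y} :=
    le_antisymm (le_span_of_le_sup_sq (by rw [← pow_two]; exact hxy.ge)) (le_sup_left.trans hxy.le)
  have hpr : ∀ g, maximalIdeal A ≠ Ideal.span {g} := fun g hg => by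
    have := finrank_cotangentSpace_le_one_iff.2 (⟨⟨g, hg⟩⟩ : (maximalIdeal A).IsPrincipal)
    omega
  have hne : maximalIdeal A ≠ ⊥ := fun h0 => hpr 0 (by rw [h0]; simp)
  refine ⟨x, y, a, b, c, hm, ?_, hq, hpr, exists_regular_of_isReduced hne⟩
  by_contra hu
  exact hd ((residue_eq_zero_iff _).2 ((mem_maximalIdeal _).2 hu))

end Groth.Agent.Node12
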