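import Groth.Agent.Node12.Etale
import Groth.Agent.VarGal.SmoothGeomReg
import Groth.Agent.SchBasics.DiffSmoothLimit
import Groth.Agent.S0558
import Mathlib.RingTheory.RegularLocalRing.Defs

/-!
# Closed one-dimensional subschemes of nodal curves
-/

set_option autoImplicit false
set_option linter.style.haveILetI false
set_option maxHeartbeats 1600000
set_option synthInstance.maxHeartbeats 100000
set_option backward.isDefEq.respectTransparency.types false

universe u

open IsLocalRing

noncomputable section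

namespace Groth.Agent.Node12

/-- A proper quotient, with a regular element in the maximal ideal, of a local ring with two
generators satisfying a nondegenerate quadratic relation has principal maximal ideal. -/
theorem principal_of_relation {A B : Type u} [CommRing A] [IsLocalRing A] [IsNoetherianRing A]
    [CommRing B] [IsLocalRing B] {x y a b c : A} (hm : maximalIdeal A = Ideal.span {x, y})
    (hd : IsUnit (4 * a * c - b ^ 2)) (hq : a * x ^ 2 + b * x * y + c * y ^ 2 ∈ maximalIdeal A ^ 3)
    (φ : A →+* B) (hφ : Function.Surjective φ) (hne : ¬ Function.Injective φ) {e : B}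
    (hem : e ∈ maximalIdeal B) (he : e ∈ nonZeroDivisors B) :
    ∃ g, maximalIdeal B = Ideal.span {g} := by
  obtain ⟨z, w, p, r, s, hzw, hp, hr⟩ : ∃ z w p r s : A, maximalIdeal A = Ideal.span {z, w} ∧ IsUnit p ∧
      p * z ^ 2 + r * z * w + s * w ^ 2 ∈ maximalIdeal A ^ 3 := by
    by_cases ha : IsUnit a
    · exact ⟨x, y, a, b, c, hm, ha, hq⟩
    by_cases hc : IsUnit c
    · exact ⟨y, x, c, b, a, by rw [hm, Set.pair_comm], hc, by convert hq using 1; ring⟩
    · have hb : IsUnit b := by
        by_contra hb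
        exact (mem_maximalIdeal _).1 (sub_mem (Ideal.mul_mem_left _ _ ((mem_maximalIdeal _).2 hc))
          (Ideal.pow_mem_of_mem _ ((mem_maximalIdeal _).2 hb) 2 two_pos)) hd
      refine ⟨x, y - x, a + b + c, b + 2 * c, c, ?_, ?_, by convert hq using 1; ring⟩
      · rw [hm]
        refine le_antisymm (Ideal.span_le.2 ?_) (Ideal.span_le.2 ?_)
        · rintro t (rfl | rfl) <;> rw [SetLike.mem_coe, Ideal.mem_span_pair]
          · exact ⟨1, 0, by ring⟩
          · exact ⟨1, 1, by ring⟩
        · rintro t (rfl | rfl) <;> rw [SetLike.mem_coe, Ideal.mem_span_pair]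
          · exact ⟨1, 0, by ring⟩
          · exact ⟨-1, 1, by ring⟩
      · by_contra hu
        have := sub_mem (sub_mem ((mem_maximalIdeal _).2 hu) ((mem_maximalIdeal _).2 ha)) ((mem_maximalIdeal _).2 hc)
        rw [show a + b + c - a - c = b by ring] at this
        exact (mem_maximalIdeal _).1 this hb
  have hzm : z ∈ maximalIdeal A := hzw ▸ Ideal.subset_span (by simp)
  have hwm : w ∈ maximalIdeal A := hzw ▸ Ideal.subset_span (by simp)
  have hsq : maximalIdeal A ^ 2 = Ideal.span {w} * maximalIdeal A := by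
    refine le_antisymm (le_span_of_le_sup_sq ?_) (by
      rw [pow_two]; exact Ideal.mul_mono_left ((Ideal.span_singleton_le_iff_mem _).2 hwm))
    rw [show maximalIdeal A * maximalIdeal A ^ 2 = maximalIdeal A ^ 3 by ring]
    conv_lhs => rw [pow_two]
    rw [Ideal.mul_le]
    intro u hu v hv
    rw [hzw, Ideal.mem_span_pair] at hu hv
    obtain ⟨u₁, u₂, rfl⟩ := hu
    obtain ⟨v₁, v₂, rfl⟩ := hv
    obtain ⟨p', hp'⟩ := hp.exists_left_inv
    have e : (u₁ * z + u₂ * w) * (v₁ * z + v₂ * w) =
        w * ((u₁ * v₂ + u₂ * v₁ - u₁ * v₁ * p' * r) * z + (u₂ * v₂ - u₁ * v₁ * p' * s) * w) +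
          u₁ * v₁ * p' * (p * z ^ 2 + r * z * w + s * w ^ 2) := by
      linear_combination -(u₁ * v₁ * z ^ 2) * hp'
    rw [e]
    exact add_mem (Ideal.mem_sup_left (Ideal.mul_mem_mul (Ideal.mem_span_singleton_self _)
      (add_mem (Ideal.mul_mem_left _ _ hzm) (Ideal.mul_mem_left _ _ hwm))))
      (Ideal.mem_sup_right (Ideal.mul_mem_left _ _ hr))
  have hpow : ∀ n, maximalIdeal A ^ (n + 1) = Ideal.span {w ^ n} * maximalIdeal A := by
    intro n
    induction n with
    | zero => simp
    | succ n ih => rw [pow_succ, ih, mul_assoc, ← pow_two, hsq, ← mul_assoc, Ideal.span_singleton_mul_span_singleton,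
        ← pow_succ]
  haveI : IsLocalHom φ := IsLocalHom.of_surjective φ hφ
  obtain ⟨g, hg, hg0⟩ : ∃ g, φ g = 0 ∧ g ≠ 0 := by
    by_contra hcon
    push Not at hcon
    exact hne ((injective_iff_map_eq_zero φ).2 fun t ht => hcon t ht)
  have hgm : g ∈ maximalIdeal A := (mem_maximalIdeal _).2 fun hu => not_isUnit_zero (hg ▸ hu.map φ)
  obtain ⟨n, hn, hn'⟩ : ∃ n, g ∈ maximalIdeal A ^ (n + 1) ∧ g ∉ maximalIdeal A ^ (n + 2) := by
    by_contra hcon
    push Not at hcon
    refine hg0 ?_
    have hall : ∀ n, g ∈ maximalIdeal A ^ (n + 1) := by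
      intro n
      induction n with
      | zero => simpa using hgm
      | succ n ih => exact hcon n ih
    rw [← Ideal.mem_bot, ← Ideal.iInf_pow_eq_bot_of_isLocalRing (maximalIdeal A) (maximalIdeal.isMaximal A).ne_top,
      Ideal.mem_iInf]
    exact fun n => Ideal.pow_le_pow_right (Nat.le_succ n) (hall n)
  rw [hpow, Ideal.mem_span_singleton_mul] at hn
  obtain ⟨t, ht, rfl⟩ := hn
  rw [hzw, Ideal.mem_span_pair] at ht
  obtain ⟨σ, τ, rfl⟩ := ht
  have hB : maximalIdeal B = Ideal.span {φ z, φ w} := by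
    rw [← IsLocalRing.map_maximalIdeal_of_surjective φ hφ, hzw, Ideal.map_span, Set.image_pair]
  -- the image of `w` is regular
  have hwB : φ w ∈ nonZeroDivisors B := by
    have h1 : e * e ∈ maximalIdeal B ^ 2 := by rw [pow_two]; exact Ideal.mul_mem_mul hem hem
    rw [← IsLocalRing.map_maximalIdeal_of_surjective φ hφ, ← Ideal.map_pow, hsq, Ideal.map_mul, Ideal.map_span,
      Set.image_singleton, Ideal.mem_span_singleton_mul] at h1
    obtain ⟨v, -, hv⟩ := h1
    have := mul_mem he he
    rw [← hv] at this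
    exact (mul_mem_nonZeroDivisors.1 this).1
  have h0 : φ σ * φ z + φ τ * φ w = 0 := by
    refine mem_nonZeroDivisors_iff_left.1 (pow_mem hwB n) _ ?_
    rw [← map_mul, ← map_mul, ← map_add, ← map_pow, ← map_mul, hg]
  have hu : IsUnit σ ∨ IsUnit τ := by
    by_contra hcon
    rw [not_or] at hcon
    refine hn' ?_
    rw [show n + 2 = n + 2 from rfl, pow_add]
    refine Ideal.mul_mem_mul (Ideal.pow_mem_pow hwm n) ?_
    rw [pow_two]
    exact add_mem (Ideal.mul_mem_mul ((mem_maximalIdeal _).2 hcon.1) hzm)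
      (Ideal.mul_mem_mul ((mem_maximalIdeal _).2 hcon.2) hwm)
  rcases hu with hu | hu
  · obtain ⟨v, hv⟩ := (hu.map φ).exists_left_inv
    refine ⟨φ w, le_antisymm ?_ (hB ▸ Ideal.span_mono (by simp))⟩
    rw [hB, Ideal.span_le]
    rintro u (rfl | rfl)
    · exact Ideal.mem_span_singleton'.2 ⟨-(v * φ τ), by linear_combination -v * h0 + φ z * hv⟩
    · exact Ideal.mem_span_singleton_self _
  · obtain ⟨v, hv⟩ := (hu.map φ).exists_left_inv
    refine ⟨φ z, le_antisymm ?_ (hB ▸ Ideal.span_mono (by simp))⟩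
    rw [hB, Ideal.span_le]
    rintro u (rfl | rfl)
    · exact Ideal.mem_span_singleton_self _
    · exact Ideal.mem_span_singleton'.2 ⟨-(v * φ σ), by linear_combination -v * h0 + φ w * hv⟩

/-- A proper quotient of a quadratic point with a regular element in the maximal ideal has principal
maximal ideal. -/
theorem IsQuadPt.principal_of_quotient {A B : Type u} [CommRing A] [IsLocalRing A] [IsNoetherianRing A]
    [CommRing B] [IsLocalRing B] (h : IsQuadPt A) (φ : A →+* B) (hφ : Function.Surjective φ)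
    (hne : ¬ Function.Injective φ) {e : B} (hem : e ∈ maximalIdeal B) (he : e ∈ nonZeroDivisors B) :
    ∃ g, maximalIdeal B = Ideal.span {g} := by
  obtain ⟨x, y, a, b, c, hm, hd, hq, -, -⟩ := h
  exact principal_of_relation hm hd hq φ hφ hne hem he

open CategoryTheory AlgebraicGeometry

/-- The structure map to the local rings is compatible with morphisms. -/
theorem stalkMap_comp_struct {k : Type u} [Field k] {X Y : Scheme.{u}} [X.Over (Spec (CommRingCat.of k))]
    [Y.Over (Spec (CommRingCat.of k))] (π : Y ⟶ X)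
    (hπ : π ≫ (X ↘ (Spec (CommRingCat.of k))) = Y ↘ (Spec (CommRingCat.of k))) (y : Y) (r : k) :
    (π.stalkMap y).hom (Curv2.stalkMap k X (π y) r) = Curv2.stalkMap k Y y r := by
  have h : Spec.map (CommRingCat.ofHom (Curv2.stalkMap k Y y)) =
      Spec.map (CommRingCat.ofHom (Curv2.stalkMap k X (π y)) ≫ π.stalkMap y) := by
    rw [Spec.map_comp]
    refine Eq.trans ?_ (congrArg (fun m => Spec.map (π.stalkMap y) ≫ m)
      (Curves2.fromSpecStalk_struct (X ↘ Spec (CommRingCat.of k)) (π y)))
    rw [Scheme.SpecMap_stalkMap_fromSpecStalk_assoc, hπ]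
    exact (Curves2.fromSpecStalk_struct (Y ↘ Spec (CommRingCat.of k)) y).symm
  exact (RingHom.congr_fun (congrArg CommRingCat.Hom.hom (Spec.map_injective h)) r).symm

attribute [local instance] Curv2.resAlgebra Curv2.stalkAlgebra

/-- A point of a closed one-dimensional reduced subscheme over a smooth point or a node is smooth or a node. -/
theorem smooth_or_node_of_closed {k : Type u} [Field k] {X Y : Scheme.{u}} [X.Over (Spec (CommRingCat.of k))]
    [LocallyOfFiniteType (X ↘ (Spec (CommRingCat.of k)))] [Y.Over (Spec (CommRingCat.of k))] [IsReduced Y]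
    (ι : Y ⟶ X) [IsClosedImmersion ι]
    (hι : ι ≫ (X ↘ (Spec (CommRingCat.of k))) = Y ↘ (Spec (CommRingCat.of k)))
    (y : Y) (hy : IsClosed ({y} : Set Y)) (hdX : ringKrullDim (X.presheaf.stalk (ι y)) = 1)
    (hdY : ringKrullDim (Y.presheaf.stalk y) = 1)
    (hX : (∃ U : X.Opens, ι y ∈ U ∧ Smooth (U.ι ≫ (X ↘ Spec (CommRingCat.of k)))) ∨ Curv2.IsNode k X (ι y)) :
    (∃ U : Y.Opens, y ∈ U ∧ Smooth (U.ι ≫ (Y ↘ Spec (CommRingCat.of k)))) ∨ Curv2.IsNode k Y y := by
  have : LocallyOfFiniteType (Y ↘ Spec (CommRingCat.of k)) := hι ▸ inferInstance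
  have : IsLocallyNoetherian X := LocallyOfFiniteType.isLocallyNoetherian (X ↘ Spec (CommRingCat.of k))
  have : IsLocallyNoetherian Y := LocallyOfFiniteType.isLocallyNoetherian (Y ↘ Spec (CommRingCat.of k))
  let A := X.presheaf.stalk (ι y)
  let B := Y.presheaf.stalk y
  let φ : A →+* B := (ι.stalkMap y).hom
  have hφ : Function.Surjective φ := ι.stalkMap_surjective y
  have hcomm : ∀ r : k, φ (algebraMap k A r) = algebraMap k B r := stalkMap_comp_struct ι hι y
  haveI : IsLocalHom φ := inferInstanceAs (IsLocalHom (ι.stalkMap y).hom)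
  have hsmooth_of_iso : ∀ U : X.Opens, ι y ∈ U → Smooth (U.ι ≫ (X ↘ Spec (CommRingCat.of k))) →
      Function.Bijective φ → ∃ V : Y.Opens, y ∈ V ∧ Smooth (V.ι ≫ (Y ↘ Spec (CommRingCat.of k))) := by
    intro U hxU hU hbij
    have h1 : ι y ∈ (X ↘ Spec (CommRingCat.of k)).smoothLocus := by
      have h2 : (⟨ι y, hxU⟩ : U) ∈ (U.ι ≫ (X ↘ Spec (CommRingCat.of k))).smoothLocus := by
        rw [Scheme.Hom.smoothLocus_eq_top_iff.2 hU]; trivial
      rw [← Scheme.Hom.preimage_smoothLocus_eq] at h2
      exact h2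
    have h3 : y ∈ (Y ↘ Spec (CommRingCat.of k)).smoothLocus := by
      rw [Scheme.Hom.mem_smoothLocus] at h1 ⊢
      suffices h4 : ((ι ≫ (X ↘ Spec (CommRingCat.of k))).stalkMap y).hom.FormallySmooth by
        convert h4 using 4 <;> rw [hι]
      rw [Scheme.Hom.stalkMap_comp]
      show ((ι.stalkMap y).hom.comp ((X ↘ Spec (CommRingCat.of k)).stalkMap (ι y)).hom).FormallySmooth
      exact RingHom.FormallySmooth.comp h1 (RingHom.FormallySmooth.of_bijective hbij)
    exact ⟨(Y ↘ Spec (CommRingCat.of k)).smoothLocus, h3, SchBasics.smooth_smoothLocus_ι _⟩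
  by_cases hbij : Function.Bijective φ
  · rcases hX with ⟨U, hxU, hU⟩ | hn
    · exact Or.inl (hsmooth_of_iso U hxU hU hbij)
    · refine Or.inr ((isNode_iff y).2 ⟨hy, ?_, ?_⟩)
      · obtain ⟨-, hsep, -⟩ := (isNode_iff _).1 hn
        let e : ResidueField A ≃+* ResidueField B := ResidueField.mapEquiv (RingEquiv.ofBijective φ hbij)
        let e' : ResidueField A ≃ₐ[k] ResidueField B := AlgEquiv.ofRingEquiv (f := e) fun r =>
          congrArg (residue B) (hcomm r)
        exact AlgEquiv.Algebra.isSeparable e'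
      · obtain ⟨-, -, hQ⟩ := (isNode_iff _).1 hn
        algebraize [φ]
        haveI : Module.Flat A B := RingHom.flat_algebraMap_iff.1 (RingHom.Flat.of_bijective hbij)
        haveI : IsLocalHom (algebraMap A B) := ‹IsLocalHom φ›
        exact hQ.map (IsLocalRing.map_maximalIdeal_of_surjective φ hφ)
  · have hinj : ¬ Function.Injective φ := fun h => hbij ⟨h, hφ⟩
    rcases hX with ⟨U, hxU, hU⟩ | hn
    · exfalso
      have h1 : ι y ∈ (X ↘ Spec (CommRingCat.of k)).smoothLocus := by
        have h2 : (⟨ι y, hxU⟩ : U) ∈ (U.ι ≫ (X ↘ Spec (CommRingCat.of k))).smoothLocus := by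
          rw [Scheme.Hom.smoothLocus_eq_top_iff.2 hU]; trivial
        rw [← Scheme.Hom.preimage_smoothLocus_eq] at h2
        exact h2
      haveI := VarGal.regular_of_mem_smoothLocus (k := k) _ h1
      haveI : IsDomain A := S0558.result A
      have hker : RingHom.ker φ ≠ ⊥ := fun h => hinj ((RingHom.injective_iff_ker_eq_bot φ).2 h)
      have h0 := ringKrullDim_quotient_succ_le_of_nonZeroDivisor
        (R := A) (show (Submodule.exists_mem_ne_zero_of_ne_bot hker).choose ∈ nonZeroDivisors A from
          mem_nonZeroDivisors_of_ne_zero (Submodule.exists_mem_ne_zero_of_ne_bot hker).choose_spec.2)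
      have h2 : ringKrullDim B ≤ ringKrullDim (A ⧸ Ideal.span {(Submodule.exists_mem_ne_zero_of_ne_bot hker).choose}) :=
        ringKrullDim_le_of_surjective (Ideal.Quotient.lift _ φ fun a ha => by
          obtain ⟨s, rfl⟩ := Ideal.mem_span_singleton'.1 ha
          rw [map_mul, show φ _ = 0 from (Submodule.exists_mem_ne_zero_of_ne_bot hker).choose_spec.1, mul_zero])
          (Ideal.Quotient.lift_surjective_of_surjective _ _ hφ)
      have h4 : ringKrullDim B + 1 ≤ ringKrullDim A := (add_le_add h2 le_rfl).trans h0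
      rw [hdY, hdX] at h4
      exact absurd h4 (by decide)
    · obtain ⟨-, hsep, hQ⟩ := (isNode_iff _).1 hn
      have hne : maximalIdeal B ≠ ⊥ := fun h0 => by
        rw [ringKrullDim_eq_zero_of_isField (IsLocalRing.isField_iff_maximalIdeal_eq.2 h0)] at hdY
        exact zero_ne_one hdY
      obtain ⟨e, hem, he⟩ := exists_regular_of_isReduced hne
      obtain ⟨g, hg⟩ := hQ.principal_of_quotient φ hφ hinj hem he
      haveI : IsRegularLocalRing B := IsRegularLocalRing.of_spanFinrank_maximalIdeal_le B (by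
        rw [hg, hdY]
        exact_mod_cast (Submodule.spanFinrank_span_le_ncard_of_finite (Set.finite_singleton g)).trans (Set.ncard_singleton g).le)
      let e' : ResidueField A →ₐ[k] ResidueField B :=
        { ResidueField.map φ with commutes' := fun r => congrArg (residue B) (hcomm r) }
      have he' : Function.Surjective e' := fun t => by
        obtain ⟨b, rfl⟩ := residue_surjective t
        obtain ⟨a, rfl⟩ := hφ b
        exact ⟨residue A a, rfl⟩
      haveI : Algebra.IsSeparable k (ResidueField B) :=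
        AlgEquiv.Algebra.isSeparable (AlgEquiv.ofBijective e' ⟨e'.toRingHom.injective, he'⟩)
      haveI : Algebra.FormallyEtale k (ResidueField B) := Algebra.FormallyEtale.of_isSeparable k _
      haveI : Algebra.FormallySmooth k (Y.residueField y) := (inferInstance : Algebra.FormallySmooth k (ResidueField B))
      exact Or.inl ⟨(Y ↘ Spec (CommRingCat.of k)).smoothLocus, VarGal.mem_smoothLocus_of_regular y, SchBasics.smooth_smoothLocus_ι _⟩

end Groth.Agent.Node12
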