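import Mathlib.RingTheory.Flat.FaithfullyFlat.Algebra
import Mathlib.RingTheory.Nakayama
import Mathlib.RingTheory.LocalRing.ResidueField.Basic
import Mathlib.RingTheory.Regular.IsSMulRegular
import Mathlib.RingTheory.TensorProduct.Pi
import Mathlib.RingTheory.Nilpotent.Lemmas
import Mathlib.RingTheory.Ideal.MinimalPrime.Basic
import Mathlib.LinearAlgebra.TensorProduct.RightExactness
import Mathlib.Tactic.LinearCombination

/-!
# Nondegenerate quadratic points of local rings
-/

set_option autoImplicit false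
set_option linter.style.haveILetI false
set_option maxHeartbeats 1600000

universe u

open IsLocalRing
open scoped TensorProduct

noncomputable section

namespace Groth.Agent.Node12

/-- A local ring whose maximal ideal has two generators satisfying a nondegenerate quadratic
relation modulo its cube, is not regular and contains a regular element in its maximal ideal. -/
def IsQuadPt (A : Type u) [CommRing A] [IsLocalRing A] : Prop :=
  ∃ x y a b c : A, maximalIdeal A = Ideal.span {x, y} ∧ IsUnit (4 * a * c - b ^ 2) ∧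
    a * x ^ 2 + b * x * y + c * y ^ 2 ∈ maximalIdeal A ^ 3 ∧ (∀ g, maximalIdeal A ≠ Ideal.span {g}) ∧
    ∃ e ∈ maximalIdeal A, e ∈ nonZeroDivisors A

variable {A : Type u} [CommRing A] [IsLocalRing A]

theorem le_span_of_le_sup_sq [IsNoetherianRing A] {I N : Ideal A}
    (h : I ≤ N ⊔ maximalIdeal A * I) : I ≤ N :=
  Submodule.le_of_le_smul_of_le_jacobson_bot (IsNoetherian.noetherian _)
    (IsLocalRing.maximalIdeal_le_jacobson _) (by rwa [smul_eq_mul])

/-- If the square of the maximal ideal is principal and contains a regular element, so is the maximal ideal. -/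
theorem isPrincipal_of_sq {x y z e : A} (hm : maximalIdeal A = Ideal.span {x, y})
    (hz : maximalIdeal A ^ 2 = Ideal.span {z}) (hem : e ∈ maximalIdeal A) (he : e ∈ nonZeroDivisors A) :
    ∃ g, maximalIdeal A = Ideal.span {g} := by
  have hz' : ∀ {s t : A}, s ∈ maximalIdeal A → t ∈ maximalIdeal A → ∃ r, r * z = s * t := fun hs ht => by
    rw [← Ideal.mem_span_singleton', ← hz, pow_two]
    exact Ideal.mul_mem_mul hs ht
  have hznzd : z ∈ nonZeroDivisors A := by
    obtain ⟨r, hr⟩ := hz' hem hem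
    have := mul_mem he he
    rw [← hr] at this
    exact (mul_mem_nonZeroDivisors.1 this).2
  have hz2 : z ∈ maximalIdeal A * maximalIdeal A := by
    rw [← pow_two, hz]; exact Ideal.mem_span_singleton_self _
  have hz3 : z ∈ Ideal.span {x} * maximalIdeal A ⊔ Ideal.span {y} * maximalIdeal A := by
    rw [← Ideal.sup_mul, ← Ideal.span_union, ← Set.insert_eq, ← hm]
    exact hz2
  obtain ⟨_, h1, _, h2, h12⟩ := Submodule.mem_sup.1 hz3
  obtain ⟨s, hs, rfl⟩ := Ideal.mem_span_singleton_mul.1 h1
  obtain ⟨t, ht, rfl⟩ := Ideal.mem_span_singleton_mul.1 h2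
  have hxm : x ∈ maximalIdeal A := hm ▸ Ideal.subset_span (by simp)
  have hym : y ∈ maximalIdeal A := hm ▸ Ideal.subset_span (by simp)
  obtain ⟨p, hp⟩ := hz' hxm hs
  obtain ⟨q, hq⟩ := hz' hym ht
  have hpq : p + q = 1 := mem_nonZeroDivisors_iff_right.1 hznzd _ (by linear_combination hp + hq + h12) |> sub_eq_zero.1
  have key : ∀ x₀ s₀ p₀ : A, x₀ ∈ maximalIdeal A → s₀ ∈ maximalIdeal A → p₀ * z = x₀ * s₀ → IsUnit p₀ →
      ∃ g, maximalIdeal A = Ideal.span {g} := by
    intro x₀ s₀ p₀ hx hs hps hu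
    have hnzd : x₀ * s₀ ∈ nonZeroDivisors A := by
      rw [← hps]; exact mul_mem hu.mem_nonZeroDivisors hznzd
    refine ⟨x₀, le_antisymm (fun w hw => ?_) ((Ideal.span_singleton_le_iff_mem _).2 hx)⟩
    obtain ⟨r, hr⟩ := hz' hw hs
    obtain ⟨v, hv⟩ := hu.exists_left_inv
    refine Ideal.mem_span_singleton'.2 ⟨r * v, ?_⟩
    refine sub_eq_zero.1 (mem_nonZeroDivisors_iff_right.1 (mul_mem_nonZeroDivisors.1 hnzd).2 _ ?_)
    linear_combination hr - r * v * hps + r * z * hv
  rcases IsLocalRing.isUnit_or_isUnit_of_isUnit_add (hpq ▸ isUnit_one : IsUnit (p + q)) with hu | hu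
  · exact key x s p hxm hs hp hu
  · exact key y t q hym ht hq hu

/-- The quadratic relation is unique up to a scalar. -/
theorem relation_unique [IsNoetherianRing A] {x y e : A} (hm : maximalIdeal A = Ideal.span {x, y})
    (hpr : ∀ g, maximalIdeal A ≠ Ideal.span {g}) (hem : e ∈ maximalIdeal A) (he : e ∈ nonZeroDivisors A)
    {a b c a' b' c' : A} (h : a * x ^ 2 + b * x * y + c * y ^ 2 ∈ maximalIdeal A ^ 3)
    (h' : a' * x ^ 2 + b' * x * y + c' * y ^ 2 ∈ maximalIdeal A ^ 3) :
    a * b' - a' * b ∈ maximalIdeal A ∧ a * c' - a' * c ∈ maximalIdeal A ∧ b * c' - b' * c ∈ maximalIdeal A := by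
  have hxm : x ∈ maximalIdeal A := hm ▸ Ideal.subset_span (by simp)
  have hym : y ∈ maximalIdeal A := hm ▸ Ideal.subset_span (by simp)
  have key : ∀ M₁ M₂ M₃ : A, maximalIdeal A ^ 2 ≤ Ideal.span {M₁, M₂, M₃} → M₃ ∈ maximalIdeal A ^ 2 →
      ∀ {u u₁ u₂ : A}, IsUnit u → u * M₁ + u₁ * M₃ ∈ maximalIdeal A ^ 3 →
      u * M₂ + u₂ * M₃ ∈ maximalIdeal A ^ 3 → False := by
    intro M₁ M₂ M₃ hspan hM₃ u u₁ u₂ hu h1 h2
    suffices hM : maximalIdeal A ^ 2 ≤ Ideal.span {M₃} by
      obtain ⟨g, hg⟩ := isPrincipal_of_sq hm (z := M₃)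
        (le_antisymm hM ((Ideal.span_singleton_le_iff_mem _).2 hM₃)) hem he
      exact hpr g hg
    refine le_span_of_le_sup_sq ?_
    refine hspan.trans (Ideal.span_le.2 ?_)
    obtain ⟨v, hv⟩ := hu.exists_left_inv
    have h3 : maximalIdeal A * maximalIdeal A ^ 2 = maximalIdeal A ^ 3 := by ring
    rw [h3]
    rintro t (rfl | rfl | rfl)
    · have : t = -(v * u₁) * M₃ + v * (u * t + u₁ * M₃) := by linear_combination -t * hv
      rw [SetLike.mem_coe, this]
      exact add_mem (Ideal.mem_sup_left (Ideal.mul_mem_left _ _ (Ideal.mem_span_singleton_self _)))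
        (Ideal.mem_sup_right (Ideal.mul_mem_left _ _ h1))
    · have : t = -(v * u₂) * M₃ + v * (u * t + u₂ * M₃) := by linear_combination -t * hv
      rw [SetLike.mem_coe, this]
      exact add_mem (Ideal.mem_sup_left (Ideal.mul_mem_left _ _ (Ideal.mem_span_singleton_self _)))
        (Ideal.mem_sup_right (Ideal.mul_mem_left _ _ h2))
    · exact Ideal.mem_sup_left (Ideal.mem_span_singleton_self _)
  have hsq : maximalIdeal A ^ 2 ≤ Ideal.span {x ^ 2, x * y, y ^ 2} := by
    rw [pow_two, hm, Ideal.span_mul_span', Ideal.span_le]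
    rintro _ ⟨s, hs, t, ht, rfl⟩
    rcases hs with rfl | rfl <;> rcases ht with rfl | rfl <;> refine Ideal.subset_span ?_
    · exact Or.inl (pow_two _).symm
    · exact Or.inr (Or.inl rfl)
    · exact Or.inr (Or.inl (mul_comm _ _))
    · exact Or.inr (Or.inr (pow_two _).symm)
  have mem2 : ∀ {s t : A}, s ∈ maximalIdeal A → t ∈ maximalIdeal A → s * t ∈ maximalIdeal A ^ 2 :=
    fun hs ht => by rw [pow_two]; exact Ideal.mul_mem_mul hs ht
  have comb : ∀ s t : A, s * (a * x ^ 2 + b * x * y + c * y ^ 2) + t * (a' * x ^ 2 + b' * x * y + c' * y ^ 2) ∈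
      maximalIdeal A ^ 3 := fun s t => add_mem (Ideal.mul_mem_left _ _ h) (Ideal.mul_mem_left _ _ h')
  refine ⟨?_, ?_, ?_⟩ <;> rw [mem_maximalIdeal] <;> intro hu
  · refine key (x ^ 2) (x * y) (y ^ 2) hsq (pow_two y ▸ mem2 hym hym) hu (u₁ := b' * c - b * c')
      (u₂ := a * c' - a' * c) ?_ ?_
    · convert comb b' (-b) using 1; ring
    · convert comb (-a') a using 1; ring
  · refine key (x ^ 2) (y ^ 2) (x * y) (hsq.trans (Ideal.span_mono (by intro t; simp; tauto))) (mem2 hxm hym) hu
      (u₁ := c' * b - c * b') (u₂ := a * b' - a' * b) ?_ ?_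
    · convert comb c' (-c) using 1; ring
    · convert comb (-a') a using 1; ring
  · refine key (x * y) (y ^ 2) (x ^ 2) (hsq.trans (Ideal.span_mono (by intro t; simp; tauto)))
      (pow_two x ▸ mem2 hxm hxm) hu (u₁ := c' * a - c * a') (u₂ := b * a' - a * b') ?_ ?_
    · convert comb c' (-c) using 1; ring
    · convert comb (-b') b using 1; ring

/-- Replacing one of the two generators. -/
theorem relation_step {u v x : A} (hm : maximalIdeal A = Ideal.span {u, v}) {α β a b c : A} (hα : IsUnit α)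
    (hx : x = α * u + β * v) (hd : IsUnit (4 * a * c - b ^ 2))
    (hq : a * u ^ 2 + b * u * v + c * v ^ 2 ∈ maximalIdeal A ^ 3) :
    maximalIdeal A = Ideal.span {x, v} ∧ ∃ a' b' c' : A, IsUnit (4 * a' * c' - b' ^ 2) ∧
      a' * x ^ 2 + b' * x * v + c' * v ^ 2 ∈ maximalIdeal A ^ 3 := by
  obtain ⟨α', hα'⟩ := hα.exists_left_inv
  refine ⟨?_, a * α' ^ 2, b * α' - 2 * a * β * α' ^ 2, a * β ^ 2 * α' ^ 2 - b * β * α' + c, ?_, ?_⟩
  · rw [hm]
    refine le_antisymm (Ideal.span_le.2 ?_) (Ideal.span_le.2 ?_)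
    · rintro t (rfl | rfl)
      · rw [SetLike.mem_coe, Ideal.mem_span_pair]
        exact ⟨α', -α' * β, by rw [hx]; linear_combination t * hα'⟩
      · exact Ideal.subset_span (by simp)
    · rintro t (rfl | rfl)
      · rw [SetLike.mem_coe, Ideal.mem_span_pair]; exact ⟨α, β, hx.symm⟩
      · exact Ideal.subset_span (by simp)
  · rw [show 4 * (a * α' ^ 2) * (a * β ^ 2 * α' ^ 2 - b * β * α' + c) - (b * α' - 2 * a * β * α' ^ 2) ^ 2 =
      (4 * a * c - b ^ 2) * α' ^ 2 by ring]
    exact hd.mul ((IsUnit.of_mul_eq_one α hα').pow 2)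
  · convert hq using 1
    have hu : u = α' * (x - β * v) := by rw [hx]; linear_combination -u * hα'
    rw [hu]; ring

theorem not_subset_sq {u v : A} [IsNoetherianRing A] (hm : maximalIdeal A = Ideal.span {u, v})
    (hpr : ∀ g, maximalIdeal A ≠ Ideal.span {g}) (x : A) (hx : x ∈ maximalIdeal A) :
    ¬ maximalIdeal A ≤ Ideal.span {x} ⊔ maximalIdeal A ^ 2 := fun h => hpr x
  (le_antisymm (le_span_of_le_sup_sq (by rwa [← pow_two])) ((Ideal.span_singleton_le_iff_mem _).2 hx))

/-- Generators of the maximal ideal can be chosen among any given generating set. -/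
theorem IsQuadPt.exists_subset [IsNoetherianRing A] (h : IsQuadPt A) (G : Set A)
    (hG : Ideal.span G = maximalIdeal A) :
    ∃ x ∈ G, ∃ y ∈ G, maximalIdeal A = Ideal.span {x, y} ∧ ∃ a b c : A, IsUnit (4 * a * c - b ^ 2) ∧
      a * x ^ 2 + b * x * y + c * y ^ 2 ∈ maximalIdeal A ^ 3 := by
  obtain ⟨u, v, a, b, c, hm, hd, hq, hpr, -⟩ := h
  have hxex : ∃ x ∈ G, x ∉ Ideal.span {(0 : A)} ⊔ maximalIdeal A ^ 2 := by
    by_contra hcon
    push Not at hcon
    exact not_subset_sq hm hpr 0 (zero_mem _) (hG.ge.trans (Ideal.span_le.2 hcon))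
  obtain ⟨x, hxG, hx2⟩ := hxex
  have hxm : x ∈ maximalIdeal A := hG ▸ Ideal.subset_span hxG
  have hstep : ∃ w w' a b c : A, w = x ∧ maximalIdeal A = Ideal.span {w, w'} ∧ IsUnit (4 * a * c - b ^ 2) ∧
      a * w ^ 2 + b * w * w' + c * w' ^ 2 ∈ maximalIdeal A ^ 3 := by
    obtain ⟨α, β, hαβ⟩ := Ideal.mem_span_pair.1 (hm ▸ hxm)
    by_cases hα : IsUnit α
    · obtain ⟨h1, a', b', c', h2, h3⟩ := relation_step hm hα hαβ.symm hd hq
      exact ⟨x, v, a', b', c', rfl, h1, h2, h3⟩
    · by_cases hβ : IsUnit β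
      · obtain ⟨h1, a', b', c', h2, h3⟩ := relation_step (a := c) (b := b) (c := a) (u := v) (v := u) (x := x)
          (by rw [hm, Set.pair_comm]) hβ (by rw [← hαβ]; ring) (by convert hd using 1; ring)
          (by convert hq using 1; ring)
        exact ⟨x, u, a', b', c', rfl, h1, h2, h3⟩
      · refine absurd (Ideal.mem_sup_right ?_) hx2
        rw [← hαβ, pow_two]
        exact add_mem (Ideal.mul_mem_mul ((mem_maximalIdeal _).2 hα) (hm ▸ Ideal.subset_span (by simp)))
          (Ideal.mul_mem_mul ((mem_maximalIdeal _).2 hβ) (hm ▸ Ideal.subset_span (by simp)))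
  obtain ⟨w, w', a', b', c', hwx, hm', hd', hq'⟩ := hstep
  subst w
  have hyex : ∃ y ∈ G, y ∉ Ideal.span {x} ⊔ maximalIdeal A ^ 2 := by
    by_contra hcon
    push Not at hcon
    exact not_subset_sq hm' hpr x hxm (hG.ge.trans (Ideal.span_le.2 hcon))
  obtain ⟨y, hyG, hy2⟩ := hyex
  obtain ⟨γ, δ, hγδ⟩ := Ideal.mem_span_pair.1 (hm' ▸ hG ▸ Ideal.subset_span hyG : y ∈ Ideal.span {x, w'})
  have hδ : IsUnit δ := by
    by_contra hδ
    refine hy2 ?_
    rw [← hγδ]
    refine add_mem (Ideal.mem_sup_left (Ideal.mul_mem_left _ _ (Ideal.mem_span_singleton_self _)))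
      (Ideal.mem_sup_right ?_)
    rw [pow_two]
    exact Ideal.mul_mem_mul ((mem_maximalIdeal _).2 hδ) (hm' ▸ Ideal.subset_span (by simp))
  obtain ⟨h1, a'', b'', c'', h2, h3⟩ := relation_step (a := c') (b := b') (c := a') (u := w') (v := x) (x := y)
    (by rw [hm', Set.pair_comm]) hδ (by rw [← hγδ]; ring) (by convert hd' using 1; ring)
    (by convert hq' using 1; ring)
  exact ⟨x, hxG, y, hyG, by rw [h1, Set.pair_comm], c'', b'', a'', by convert h2 using 1; ring,
    by convert h3 using 1; ring⟩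

/-- A reduced local ring that is not a field has a regular non unit. -/
theorem exists_regular_of_isReduced [IsNoetherianRing A] [IsReduced A] (hne : maximalIdeal A ≠ ⊥) :
    ∃ e ∈ maximalIdeal A, e ∈ nonZeroDivisors A := by
  by_contra h
  push Not at h
  have hsub : (maximalIdeal A : Set A) ⊆ ⋃ p ∈ minimalPrimes A, (p : Set A) := fun g hg => by
    have h1 := h g hg
    rw [mem_nonZeroDivisors_iff_right] at h1
    push Not at h1
    obtain ⟨t, ht, ht0⟩ := h1
    obtain ⟨p, hp, htp⟩ : ∃ p ∈ minimalPrimes A, t ∉ p := by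
      by_contra hcon
      push Not at hcon
      refine ht0 ?_
      have h2 : t ∈ sInf (minimalPrimes A) := Ideal.mem_sInf.2 fun {p} hp => hcon p hp
      rw [minimalPrimes, Ideal.sInf_minimalPrimes, Ideal.radical_bot_of_isReduced] at h2
      exact h2
    refine Set.mem_iUnion₂.2 ⟨p, hp, ?_⟩
    exact (hp.1.1.mem_or_mem (show t * g ∈ p by rw [ht]; exact zero_mem _)).resolve_left htp
  obtain ⟨p, hp, hle⟩ := (Ideal.subset_union_prime_finite (minimalPrimes.finite_of_isNoetherianRing A) ⊥ ⊥
    fun p hp _ _ => hp.1.1).1 hsub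
  obtain rfl : maximalIdeal A = p := (maximalIdeal.isMaximal A).eq_of_le hp.1.1.ne_top hle
  refine hne (eq_bot_iff.2 fun g hg => ?_)
  have h2 : g ∈ sInf (minimalPrimes A) := Ideal.mem_sInf.2 fun {q} hq => by
    rw [show q = maximalIdeal A from le_antisymm (IsLocalRing.le_maximalIdeal hq.1.1.ne_top)
      (hp.2 hq.1 (IsLocalRing.le_maximalIdeal hq.1.1.ne_top))]
    exact hg
  rw [minimalPrimes, Ideal.sInf_minimalPrimes, Ideal.radical_bot_of_isReduced] at h2
  exact h2

variable {B : Type u} [CommRing B] [IsLocalRing B] [Algebra A B] [Module.Flat A B]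
  [IsLocalHom (algebraMap A B)]

/-- Ascent along flat unramified local maps. -/
theorem IsQuadPt.map (h : IsQuadPt A) (hm : (maximalIdeal A).map (algebraMap A B) = maximalIdeal B) :
    IsQuadPt B := by
  obtain ⟨x, y, a, b, c, hxy, hd, hq, hpr, e, hem, he⟩ := h
  haveI : Module.FaithfullyFlat A B := Module.FaithfullyFlat.of_flat_of_isLocalHom
  have hmem : ∀ {t : A}, t ∈ maximalIdeal A → algebraMap A B t ∈ maximalIdeal B := fun ht =>
    hm ▸ Ideal.mem_map_of_mem _ ht
  have hB : maximalIdeal B = Ideal.span {algebraMap A B x, algebraMap A B y} := by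
    rw [← hm, hxy, Ideal.map_span, Set.image_pair]
  refine ⟨algebraMap A B x, algebraMap A B y, algebraMap A B a, algebraMap A B b, algebraMap A B c, hB, ?_, ?_,
    fun g hg => ?_, algebraMap A B e, hmem hem, ?_⟩
  · simpa [map_ofNat] using hd.map (algebraMap A B)
  · rw [← hm, ← Ideal.map_pow]
    simpa using Ideal.mem_map_of_mem (algebraMap A B) hq
  · have key : ∀ x₀ y₀ : A, maximalIdeal A = Ideal.span {x₀, y₀} →
        maximalIdeal B ≠ Ideal.span {algebraMap A B x₀} := fun x₀ y₀ h₀ h1 => by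
      refine hpr x₀ (le_antisymm (fun w hw => ?_) ((Ideal.span_singleton_le_iff_mem _).2
        (h₀ ▸ Ideal.subset_span (by simp))))
      have h2 := hmem hw
      rw [h1, ← Set.image_singleton, ← Ideal.map_span] at h2
      rw [← Ideal.comap_map_eq_self_of_faithfullyFlat (B := B) (Ideal.span {x₀})]
      exact h2
    have hgx : algebraMap A B x ∈ Ideal.span {g} := hg ▸ hmem (hxy ▸ Ideal.subset_span (by simp))
    have hgy : algebraMap A B y ∈ Ideal.span {g} := hg ▸ hmem (hxy ▸ Ideal.subset_span (by simp))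
    obtain ⟨s, hs⟩ := Ideal.mem_span_singleton'.1 hgx
    obtain ⟨t, ht⟩ := Ideal.mem_span_singleton'.1 hgy
    obtain ⟨α, β, hαβ⟩ := Ideal.mem_span_pair.1 (show g ∈ Ideal.span {algebraMap A B x, algebraMap A B y} by
      rw [← hB, hg]; exact Ideal.mem_span_singleton_self _)
    by_cases hsu : IsUnit s
    · exact key x y hxy (by rw [hg, ← hs, Ideal.span_singleton_mul_left_unit hsu])
    by_cases htu : IsUnit t
    · exact key y x (by rw [hxy, Set.pair_comm]) (by rw [hg, ← ht, Ideal.span_singleton_mul_left_unit htu])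
    · have hu : IsUnit (1 - (α * s + β * t)) :=
        IsLocalRing.isUnit_one_sub_self_of_mem_nonunits _
          (add_mem (Ideal.mul_mem_left _ _ ((mem_maximalIdeal _).2 hsu))
            (Ideal.mul_mem_left _ _ ((mem_maximalIdeal _).2 htu)))
      have hg0 : g = 0 := (hu.mul_left_eq_zero).1 (by rw [← hs, ← ht] at hαβ; linear_combination -hαβ)
      refine key x y hxy ?_
      rw [hg, hg0, ← hs, hg0, mul_zero]
  · rw [mem_nonZeroDivisors_iff_right]
    have hreg : IsSMulRegular A e := fun s t hst => by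
      simp only [smul_eq_mul] at hst
      exact sub_eq_zero.1 (mem_nonZeroDivisors_iff_left.1 he _ (by rw [mul_sub, hst, sub_self]))
    exact fun t ht => (IsSMulRegular.of_flat (S := B) hreg).right_eq_zero_of_smul
      (by rw [smul_eq_mul, mul_comm]; exact ht)

/-- Descent along flat unramified local maps. -/
theorem IsQuadPt.of_map [IsNoetherianRing A] [IsNoetherianRing B] [IsReduced A] (h : IsQuadPt B)
    (hm : (maximalIdeal A).map (algebraMap A B) = maximalIdeal B) : IsQuadPt A := by
  haveI : Module.FaithfullyFlat A B := Module.FaithfullyFlat.of_flat_of_isLocalHom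
  obtain ⟨X, ⟨x, hx, rfl⟩, Y, ⟨y, hy, rfl⟩, hB, a', b', c', hd', hq'⟩ :=
    h.exists_subset (algebraMap A B '' maximalIdeal A) hm
  obtain ⟨-, -, -, -, -, -, -, -, hprB, eB, heBm, heB⟩ := h
  have hA : maximalIdeal A = Ideal.span {x, y} := by
    rw [← Ideal.comap_map_eq_self_of_faithfullyFlat (B := B) (maximalIdeal A), hm, hB, ← Set.image_pair,
      ← Ideal.map_span, Ideal.comap_map_eq_self_of_faithfullyFlat]
  have hprA : ∀ g, maximalIdeal A ≠ Ideal.span {g} := fun g hg => hprB (algebraMap A B g) (by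
    rw [← hm, hg, Ideal.map_span, Set.image_singleton])
  have hne : maximalIdeal A ≠ ⊥ := fun h0 => hprA 0 (by rw [h0]; simp)
  obtain ⟨e, hem, he⟩ := exists_regular_of_isReduced hne
  by_contra hcon
  -- every relation of `A` has degenerate discriminant
  let L : (Fin 3 → A) →ₗ[A] A ⧸ maximalIdeal A ^ 3 :=
    (Submodule.mkQ (maximalIdeal A ^ 3)).comp (Fintype.linearCombination A ![x ^ 2, x * y, y ^ 2])
  have hw : ∀ w ∈ LinearMap.ker L, ∀ j, algebraMap A B (w j) ∈ maximalIdeal B := by
    intro w hw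
    have hw' : w 0 * x ^ 2 + w 1 * x * y + w 2 * y ^ 2 ∈ maximalIdeal A ^ 3 := by
      rw [LinearMap.mem_ker] at hw
      have := (Submodule.Quotient.mk_eq_zero _).1 hw
      simpa [Fintype.linearCombination_apply, Fin.sum_univ_three, mul_assoc] using this
    have hD : algebraMap A B (4 * w 0 * w 2 - w 1 ^ 2) ∈ maximalIdeal B := by
      refine hm ▸ Ideal.mem_map_of_mem _ ((mem_maximalIdeal _).2 fun hu => hcon ?_)
      exact ⟨x, y, w 0, w 1, w 2, hA, hu, hw', hprA, e, hem, he⟩
    obtain ⟨h1, h2, h3⟩ := relation_unique hB hprB heBm heB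
      (a := algebraMap A B (w 0)) (b := algebraMap A B (w 1)) (c := algebraMap A B (w 2)) (a' := a') (b' := b') (c' := c')
      (by rw [← hm, ← Ideal.map_pow]; simpa using Ideal.mem_map_of_mem (algebraMap A B) hw') hq'
    simp only [map_sub, map_mul, map_pow, map_ofNat] at hD
    set W0 := algebraMap A B (w 0)
    set W1 := algebraMap A B (w 1)
    set W2 := algebraMap A B (w 2)
    have fin : ∀ s : B, s ^ 2 * (4 * a' * c' - b' ^ 2) ∈ maximalIdeal B → s ∈ maximalIdeal B := fun s hs =>
      (maximalIdeal.isMaximal B).isPrime.mem_of_pow_mem 2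
        ((Ideal.mul_unit_mem_iff_mem _ hd').1 hs)
    intro j
    fin_cases j
    · refine fin W0 ?_
      convert add_mem (add_mem (Ideal.mul_mem_left _ (a' ^ 2) hD) (Ideal.mul_mem_left _ (4 * a' * W0) h2))
        (Ideal.mul_mem_left _ (-(W0 * b' + a' * W1)) h1) using 1
      ring
    · refine fin W1 ?_
      convert add_mem (add_mem (Ideal.mul_mem_left _ (b' ^ 2) hD) (Ideal.mul_mem_left _ (-4 * b' * W2) h1))
        (Ideal.mul_mem_left _ (4 * a' * W1) h3) using 1
      ring
    · refine fin W2 ?_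
      convert add_mem (add_mem (Ideal.mul_mem_left _ (c' ^ 2) hD) (Ideal.mul_mem_left _ (-4 * c' * W2) h2))
        (Ideal.mul_mem_left _ (W1 * c' + b' * W2) h3) using 1
      ring
  let t : B ⊗[A] (Fin 3 → A) := (TensorProduct.piScalarRight A A B (Fin 3)).symm ![a', b', c']
  let ρ : B →ₐ[A] B ⊗[A] (A ⧸ maximalIdeal A ^ 3) := Algebra.TensorProduct.includeLeft
  have hρ : ∀ q ∈ maximalIdeal B ^ 3, ρ q = 0 := by
    intro q hq
    rw [← hm, ← Ideal.map_pow] at hq
    refine (Ideal.map_le_iff_le_comap (I := maximalIdeal A ^ 3) (K := RingHom.ker ρ)).2 (fun μ hμ => ?_) hq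
    show ρ (algebraMap A B μ) = 0
    rw [AlgHom.commutes, Algebra.TensorProduct.algebraMap_apply', Ideal.Quotient.algebraMap_eq,
      Ideal.Quotient.eq_zero_iff_mem.2 hμ, TensorProduct.tmul_zero]
  have ht : L.lTensor B t = 0 := by
    have h2 : ∀ s : B ⊗[A] (Fin 3 → A), L.lTensor B s =
        ρ (TensorProduct.piScalarRight A A B (Fin 3) s 0 * algebraMap A B (x ^ 2) +
          TensorProduct.piScalarRight A A B (Fin 3) s 1 * algebraMap A B (x * y) +
          TensorProduct.piScalarRight A A B (Fin 3) s 2 * algebraMap A B (y ^ 2)) := by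
      intro s
      induction s using TensorProduct.induction_on with
      | zero => simp
      | add s s' hs hs' =>
        rw [map_add, hs, hs', ← map_add]
        congr 1
        simp only [map_add, Pi.add_apply]; ring
      | tmul β w =>
        show β ⊗ₜ[A] Ideal.Quotient.mk _ (Fintype.linearCombination A ![x ^ 2, x * y, y ^ 2] w) = _
        simp only [TensorProduct.piScalarRight_apply, TensorProduct.piScalarRightHom_tmul, Fintype.linearCombination_apply,
          Fin.sum_univ_three, Matrix.cons_val_zero, Matrix.cons_val_one, Matrix.cons_val_two, Matrix.head_cons,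
          Matrix.tail_cons, smul_eq_mul, ρ, Algebra.TensorProduct.includeLeft_apply]
        rw [show Ideal.Quotient.mk (maximalIdeal A ^ 3) (w 0 * x ^ 2 + w 1 * (x * y) + w 2 * y ^ 2) =
          (w 0 * x ^ 2 + w 1 * (x * y) + w 2 * y ^ 2) • (1 : A ⧸ maximalIdeal A ^ 3) by
            rw [Algebra.smul_def, mul_one, Ideal.Quotient.algebraMap_eq], TensorProduct.tmul_smul,
          TensorProduct.smul_tmul']
        congr 1
        simp only [Algebra.smul_def, map_add, map_mul]
        ring
    rw [h2]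
    simp only [t, LinearEquiv.apply_symm_apply]
    refine hρ _ ?_
    convert hq' using 1
    simp only [Matrix.cons_val_zero, Matrix.cons_val_one, Matrix.cons_val_two, Matrix.head_cons, Matrix.tail_cons,
      map_mul, map_pow]
    ring
  obtain ⟨s, hs⟩ := ((Module.Flat.lTensor_exact B (LinearMap.exact_subtype_ker_map L)) t).1 ht
  have hall : ∀ s : B ⊗[A] LinearMap.ker L, ∀ j,
      TensorProduct.piScalarRight A A B (Fin 3) ((LinearMap.ker L).subtype.lTensor B s) j ∈ maximalIdeal B := by
    intro s j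
    induction s using TensorProduct.induction_on with
    | zero => simp
    | add s s' hs hs' => rw [map_add, map_add]; exact add_mem hs hs'
    | tmul β w =>
      simp only [LinearMap.lTensor_tmul, TensorProduct.piScalarRight_apply, TensorProduct.piScalarRightHom_tmul,
        Submodule.subtype_apply, Algebra.smul_def]
      exact Ideal.mul_mem_right _ _ (hw w w.2 j)
  have h0 := hall s 0
  have h1 := hall s 1
  have h2 := hall s 2
  rw [hs] at h0 h1 h2
  simp only [t, LinearEquiv.apply_symm_apply, Matrix.cons_val_zero, Matrix.cons_val_one, Matrix.cons_val_two,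
    Matrix.head_cons, Matrix.tail_cons] at h0 h1 h2
  exact (mem_maximalIdeal _).1 (sub_mem (Ideal.mul_mem_left _ _ h2) (Ideal.pow_mem_of_mem _ h1 2 (by norm_num))) hd'

end Groth.Agent.Node12
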