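import Groth.Agent.Node12.Model
import Groth.Agent.Node12.Quad
import Groth.Agent.Cohen12.Completion
import Groth.Agent.Cohen12.Section
import Mathlib.RingTheory.AdicCompletion.Noetherian

/-!
# Completion of a nondegenerate quadratic point
-/

set_option autoImplicit false
set_option linter.style.haveILetI false
set_option maxHeartbeats 1600000
set_option synthInstance.maxHeartbeats 100000
set_option backward.isDefEq.respectTransparency.types false

universe u

open IsLocalRing

noncomputable section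

namespace Groth.Agent.Node12

/-- In a complete local ring an approximate nondegenerate quadratic relation between two generators
becomes exact after changing the generators by elements of the square of the maximal ideal. -/
theorem exists_exact_relation {B : Type u} [CommRing B] [IsLocalRing B] [IsNoetherianRing B]
    [IsAdicComplete (maximalIdeal B) B] {x y : B} (hm : maximalIdeal B = Ideal.span {x, y}) {a b c : B}
    (hd : IsUnit (4 * a * c - b ^ 2)) (hq : a * x ^ 2 + b * x * y + c * y ^ 2 ∈ maximalIdeal B ^ 3) :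
    ∃ x' y', maximalIdeal B = Ideal.span {x', y'} ∧ x' - x ∈ maximalIdeal B ^ 2 ∧ y' - y ∈ maximalIdeal B ^ 2 ∧
      a * x' ^ 2 + b * x' * y' + c * y' ^ 2 = 0 := by
  have hgen : ∀ x' y' : B, x' - x ∈ maximalIdeal B ^ 2 → y' - y ∈ maximalIdeal B ^ 2 →
      maximalIdeal B = Ideal.span {x', y'} := by
    intro x' y' hx hy
    have hx' : x' ∈ maximalIdeal B := by
      simpa using add_mem (Ideal.pow_le_self two_ne_zero hx) (hm ▸ Ideal.subset_span (by simp) : x ∈ maximalIdeal B)
    have hy' : y' ∈ maximalIdeal B := by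
      simpa using add_mem (Ideal.pow_le_self two_ne_zero hy) (hm ▸ Ideal.subset_span (by simp) : y ∈ maximalIdeal B)
    refine le_antisymm (le_span_of_le_sup_sq (hm.le.trans (Ideal.span_le.2 ?_))) (Ideal.span_le.2 ?_)
    · rw [← pow_two]
      rintro t (rfl | rfl)
      · have := sub_mem (Ideal.mem_sup_left (T := maximalIdeal B ^ 2) (Ideal.subset_span (show x' ∈ ({x', y'} : Set B) by simp)))
          (Ideal.mem_sup_right hx)
        simpa using this
      · have := sub_mem (Ideal.mem_sup_left (T := maximalIdeal B ^ 2) (Ideal.subset_span (show y' ∈ ({x', y'} : Set B) by simp)))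
          (Ideal.mem_sup_right hy)
        simpa using this
    · rintro t (rfl | rfl)
      · exact hx'
      · exact hy'
  let Q : B → B → B := fun s t => a * s ^ 2 + b * s * t + c * t ^ 2
  have hstep : ∀ (n : ℕ) (p : B × B), ∃ p' : B × B,
      (p.1 - x ∈ maximalIdeal B ^ 2 → p.2 - y ∈ maximalIdeal B ^ 2 → Q p.1 p.2 ∈ maximalIdeal B ^ (n + 3) →
        p'.1 - p.1 ∈ maximalIdeal B ^ (n + 2) ∧ p'.2 - p.2 ∈ maximalIdeal B ^ (n + 2) ∧
          Q p'.1 p'.2 ∈ maximalIdeal B ^ (n + 4)) := by
    intro n p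
    by_cases h : p.1 - x ∈ maximalIdeal B ^ 2 ∧ p.2 - y ∈ maximalIdeal B ^ 2 ∧ Q p.1 p.2 ∈ maximalIdeal B ^ (n + 3)
    swap
    · exact ⟨p, fun h1 h2 h3 => absurd ⟨h1, h2, h3⟩ h⟩
    obtain ⟨h1, h2, h3⟩ := h
    have hp := hgen _ _ h1 h2
    have hL : maximalIdeal B = Ideal.span {2 * a * p.1 + b * p.2, b * p.1 + 2 * c * p.2} := by
      rw [hp]
      obtain ⟨v, hv⟩ := hd.exists_left_inv
      refine le_antisymm (Ideal.span_le.2 ?_) (Ideal.span_le.2 ?_)
      · rintro t (rfl | rfl) <;> rw [SetLike.mem_coe, Ideal.mem_span_pair]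
        · exact ⟨2 * c * v, -b * v, by linear_combination p.1 * hv⟩
        · exact ⟨-b * v, 2 * a * v, by linear_combination p.2 * hv⟩
      · rintro t (rfl | rfl) <;> rw [SetLike.mem_coe, Ideal.mem_span_pair]
        · exact ⟨2 * a, b, by ring⟩
        · exact ⟨b, 2 * c, by ring⟩
    have h4 : Q p.1 p.2 ∈ Ideal.span {2 * a * p.1 + b * p.2} * maximalIdeal B ^ (n + 2) ⊔
        Ideal.span {b * p.1 + 2 * c * p.2} * maximalIdeal B ^ (n + 2) := by
      rw [← Ideal.sup_mul, ← Ideal.span_union, ← Set.insert_eq, ← hL, ← pow_succ']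
      exact h3
    obtain ⟨_, e1, _, e2, e12⟩ := Submodule.mem_sup.1 h4
    obtain ⟨α, hα, rfl⟩ := Ideal.mem_span_singleton_mul.1 e1
    obtain ⟨β, hβ, rfl⟩ := Ideal.mem_span_singleton_mul.1 e2
    refine ⟨(p.1 - α, p.2 - β), fun _ _ _ => ⟨by simpa using neg_mem hα, by simpa using neg_mem hβ, ?_⟩⟩
    have hmul : ∀ {s t : B}, s ∈ maximalIdeal B ^ (n + 2) → t ∈ maximalIdeal B ^ (n + 2) →
        s * t ∈ maximalIdeal B ^ (n + 4) := fun hs ht =>
      Ideal.pow_le_pow_right (show n + 4 ≤ (n + 2) + (n + 2) by omega) (by rw [pow_add]; exact Ideal.mul_mem_mul hs ht)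
    have : Q (p.1 - α) (p.2 - β) = a * (α * α) + b * (α * β) + c * (β * β) := by
      simp only [Q] at e12 ⊢
      linear_combination -e12
    rw [this]
    exact add_mem (add_mem (Ideal.mul_mem_left _ _ (hmul hα hα)) (Ideal.mul_mem_left _ _ (hmul hα hβ)))
      (Ideal.mul_mem_left _ _ (hmul hβ hβ))
  choose F hF using hstep
  let seq : ℕ → B × B := fun n => Nat.rec (x, y) (fun n p => F n p) n
  have hseq : ∀ n, ((seq n).1 - x ∈ maximalIdeal B ^ 2 ∧ (seq n).2 - y ∈ maximalIdeal B ^ 2 ∧
      Q (seq n).1 (seq n).2 ∈ maximalIdeal B ^ (n + 3)) := by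
    intro n
    induction n with
    | zero => exact ⟨by simp [seq], by simp [seq], hq⟩
    | succ n ih =>
      obtain ⟨h1, h2, h3⟩ := ih
      obtain ⟨g1, g2, g3⟩ := hF n (seq n) h1 h2 h3
      refine ⟨?_, ?_, g3⟩
      · simpa [seq] using add_mem (Ideal.pow_le_pow_right (show 2 ≤ n + 2 by omega) g1) h1
      · simpa [seq] using add_mem (Ideal.pow_le_pow_right (show 2 ≤ n + 2 by omega) g2) h2
  have hlim : ∀ (g : ℕ → B), (∀ n, g (n + 1) - g n ∈ maximalIdeal B ^ (n + 2)) →
      ∃ L, ∀ n, g n - L ∈ maximalIdeal B ^ n := by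
    intro g hg
    have hc : ∀ m n, m ≤ n → g n - g m ∈ maximalIdeal B ^ m := by
      intro m n hmn
      induction n, hmn using Nat.le_induction with
      | base => simp
      | succ n hmn ih =>
        simpa using add_mem (Ideal.pow_le_pow_right (show m ≤ n + 2 by omega) (hg n)) ih
    obtain ⟨L, hL⟩ := IsPrecomplete.prec (I := maximalIdeal B) inferInstance (f := g) fun {m n} hmn => by
      rw [smul_eq_mul, Ideal.mul_top, SModEq.sub_mem]
      simpa using neg_mem (hc m n hmn)
    exact ⟨L, fun n => by simpa [smul_eq_mul, SModEq.sub_mem] using hL n⟩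
  obtain ⟨X, hX⟩ := hlim (fun n => (seq n).1) fun n => (hF n (seq n) (hseq n).1 (hseq n).2.1 (hseq n).2.2).1
  obtain ⟨Y, hY⟩ := hlim (fun n => (seq n).2) fun n => (hF n (seq n) (hseq n).1 (hseq n).2.1 (hseq n).2.2).2.1
  have hX2 : X - x ∈ maximalIdeal B ^ 2 := by simpa using sub_mem (hseq 2).1 (hX 2)
  have hY2 : Y - y ∈ maximalIdeal B ^ 2 := by simpa using sub_mem (hseq 2).2.1 (hY 2)
  refine ⟨X, Y, hgen _ _ hX2 hY2, hX2, hY2, ?_⟩
  refine IsHausdorff.haus (I := maximalIdeal B) inferInstance _ fun n => ?_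
  rw [smul_eq_mul, Ideal.mul_top, SModEq.zero]
  set P := (seq n).1
  set R := (seq n).2
  have : a * X ^ 2 + b * X * Y + c * Y ^ 2 = Q P R - (P - X) * (a * (P + X) + b * Y) - (R - Y) * (b * P + c * (R + Y)) := by
    simp only [Q]; ring
  rw [this]
  exact sub_mem (sub_mem (Ideal.pow_le_pow_right (show n ≤ n + 3 by omega) (hseq n).2.2)
    (Ideal.mul_mem_right _ _ (hX n))) (Ideal.mul_mem_right _ _ (hY n))

variable {A : Type u} [CommRing A] [IsLocalRing A] [IsNoetherianRing A]

/-- The completion of a nondegenerate quadratic point. -/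
theorem IsQuadPt.completion_equiv (h : IsQuadPt A) {K : Type u} [Field K]
    (σ : K →+* AdicCompletion (maximalIdeal A) A) (hσ : Function.Surjective ((residue _).comp σ)) :
    ∃ a b c : K, 4 * a * c - b ^ 2 ≠ 0 ∧
      ∃ E : AdicCompletion (maximalIdeal A) A ≃+* (MvPowerSeries (Fin 2) K ⧸ quadIdeal K a b c),
        ∀ t, E (σ t) = Ideal.Quotient.mk _ (MvPowerSeries.C t) := by
  let B := AdicCompletion (maximalIdeal A) A
  haveI : IsNoetherianRing B := Cohen12.isNoetherianRing_completion A
  haveI : IsAdicComplete (maximalIdeal B) B := Cohen12.isAdicComplete_completion A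
  haveI : Module.Flat A B := AdicCompletion.flat_of_isNoetherian _
  haveI : IsLocalHom (algebraMap A B) :=
    ((IsLocalRing.local_hom_TFAE _).out 2 0 rfl rfl).mp AdicCompletion.maximalIdeal_eq_map.symm.le
  obtain ⟨x, y, a, b, c, hm, hd, hq, hpr, e, hem, he⟩ :=
    h.map (B := B) AdicCompletion.maximalIdeal_eq_map.symm
  choose τ hτ using fun t : B => hσ (residue B t)
  have hτm : ∀ t, σ (τ t) - t ∈ maximalIdeal B := fun t => by
    rw [← residue_eq_zero_iff, map_sub, ← hτ t]
    exact sub_self _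
  have hdis : σ (4 * τ a * τ c - τ b ^ 2) - (4 * a * c - b ^ 2) ∈ maximalIdeal B := by
    rw [← residue_eq_zero_iff]
    simp only [map_sub, map_mul, map_pow, map_ofNat]
    rw [show residue B (σ (τ a)) = residue B a from hτ a, show residue B (σ (τ b)) = residue B b from hτ b,
      show residue B (σ (τ c)) = residue B c from hτ c, sub_self]
  have hd' : 4 * τ a * τ c - τ b ^ 2 ≠ 0 := fun h0 => by
    rw [h0, map_zero, zero_sub] at hdis
    exact (mem_maximalIdeal _).1 hdis hd.neg
  have hxm : x ∈ maximalIdeal B := hm ▸ Ideal.subset_span (by simp)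
  have hym : y ∈ maximalIdeal B := hm ▸ Ideal.subset_span (by simp)
  have hq' : σ (τ a) * x ^ 2 + σ (τ b) * x * y + σ (τ c) * y ^ 2 ∈ maximalIdeal B ^ 3 := by
    have : σ (τ a) * x ^ 2 + σ (τ b) * x * y + σ (τ c) * y ^ 2 = (a * x ^ 2 + b * x * y + c * y ^ 2) +
        ((σ (τ a) - a) * (x * x) + (σ (τ b) - b) * (x * y) + (σ (τ c) - c) * (y * y)) := by ring
    rw [this]
    refine add_mem hq ?_
    rw [show maximalIdeal B ^ 3 = maximalIdeal B * (maximalIdeal B * maximalIdeal B) by ring]
    exact add_mem (add_mem (Ideal.mul_mem_mul (hτm a) (Ideal.mul_mem_mul hxm hxm))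
      (Ideal.mul_mem_mul (hτm b) (Ideal.mul_mem_mul hxm hym))) (Ideal.mul_mem_mul (hτm c) (Ideal.mul_mem_mul hym hym))
  obtain ⟨x', y', hm', -, -, hex⟩ := exists_exact_relation hm (a := σ (τ a)) (b := σ (τ b)) (c := σ (τ c))
    (by simpa [map_ofNat] using (IsUnit.mk0 _ hd').map σ) hq'
  obtain ⟨E, hE, -⟩ := exists_equiv_of_relation σ hσ hm' hd' hex hpr hem he
  exact ⟨τ a, τ b, τ c, hd', E, hE⟩

/-- A completion isomorphic to the model forces a nondegenerate quadratic point. -/
theorem isQuadPt_of_completion_equiv {K : Type u} [Field K] {a b c : K} (hd : 4 * a * c - b ^ 2 ≠ 0)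
    (E : AdicCompletion (maximalIdeal A) A ≃+* (MvPowerSeries (Fin 2) K ⧸ quadIdeal K a b c)) :
    IsQuadPt A ∧ IsReduced A := by
  let B := AdicCompletion (maximalIdeal A) A
  haveI : IsNoetherianRing B := Cohen12.isNoetherianRing_completion A
  haveI : Module.Flat A B := AdicCompletion.flat_of_isNoetherian _
  haveI : IsLocalHom (algebraMap A B) :=
    ((IsLocalRing.local_hom_TFAE _).out 2 0 rfl rfl).mp AdicCompletion.maximalIdeal_eq_map.symm.le
  haveI : Module.FaithfullyFlat A B := Module.FaithfullyFlat.of_flat_of_isLocalHom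
  haveI : IsNoetherianRing (MvPowerSeries (Fin 2) K) := Cohen12.isNoetherianRing_powerSeries K 2
  haveI := CAlg6.isAdicComplete_maximalIdeal (k := K) (d := 2)
  let C := MvPowerSeries (Fin 2) K ⧸ quadIdeal K a b c
  haveI : IsLocalRing C := E.isLocalRing
  haveI : IsAdicComplete (maximalIdeal C) C := Cohen12.isAdicComplete_quotient _
  let σ : K →+* C := (Ideal.Quotient.mk _).comp MvPowerSeries.C
  haveI : IsLocalHom (Ideal.Quotient.mk (quadIdeal K a b c)) :=
    IsLocalHom.of_surjective _ Ideal.Quotient.mk_surjective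
  have hσ : Function.Surjective ((residue C).comp σ) := fun t => by
    obtain ⟨g, rfl⟩ := residue_surjective t
    obtain ⟨g, rfl⟩ := Ideal.Quotient.mk_surjective g
    refine ⟨MvPowerSeries.constantCoeff g, ?_⟩
    rw [RingHom.comp_apply, ← sub_eq_zero, ← map_sub, residue_eq_zero_iff, RingHom.comp_apply, ← map_sub,
      ← IsLocalRing.map_maximalIdeal_of_surjective _ Ideal.Quotient.mk_surjective]
    exact Ideal.mem_map_of_mem _ (CAlg6.mem_maximalIdeal_iff.2 (by simp))
  have hmC : maximalIdeal C = Ideal.span {Ideal.Quotient.mk _ (MvPowerSeries.X 0), Ideal.Quotient.mk _ (MvPowerSeries.X 1)} := by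
    rw [← IsLocalRing.map_maximalIdeal_of_surjective _ Ideal.Quotient.mk_surjective,
      CAlg6.maximalIdeal_eq_span_X, Ideal.map_span, ← Set.range_comp]
    congr 1
    ext t
    simp [Set.mem_range, Fin.exists_fin_two, eq_comm]
  have hqC : σ a * (Ideal.Quotient.mk (quadIdeal K a b c) (MvPowerSeries.X 0)) ^ 2 +
      σ b * Ideal.Quotient.mk _ (MvPowerSeries.X 0) * Ideal.Quotient.mk _ (MvPowerSeries.X 1) +
      σ c * (Ideal.Quotient.mk _ (MvPowerSeries.X 1)) ^ 2 = 0 := by
    simp only [σ, RingHom.comp_apply, ← map_pow, ← map_mul, ← map_add]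
    exact Ideal.Quotient.eq_zero_iff_mem.2 (Ideal.mem_span_singleton_self _)
  obtain ⟨e, hem, he⟩ := model_exists_regular hd
  haveI : IsReduced C := isReduced_of_relation σ hσ hmC hd hqC (model_not_principal a b c) hem he
  haveI : IsReduced A := isReduced_of_injective (E.toRingHom.comp (algebraMap A B))
    (E.injective.comp (FaithfulSMul.algebraMap_injective A B))
  refine ⟨?_, inferInstance⟩
  have hqB : IsQuadPt B := by
    have hm : maximalIdeal B = (maximalIdeal C).map E.symm.toRingHom :=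
      (IsLocalRing.map_maximalIdeal_of_surjective E.symm.toRingHom E.symm.surjective).symm
    refine ⟨E.symm (Ideal.Quotient.mk _ (MvPowerSeries.X 0)), E.symm (Ideal.Quotient.mk _ (MvPowerSeries.X 1)),
      E.symm (σ a), E.symm (σ b), E.symm (σ c), ?_, ?_, ?_, fun g hg => model_not_principal a b c (E g) ?_,
      E.symm e, hm ▸ Ideal.mem_map_of_mem _ hem, ?_⟩
    · rw [hm, hmC, Ideal.map_span, Set.image_pair]; rfl
    · simpa [map_ofNat] using ((IsUnit.mk0 _ hd).map σ).map E.symm
    · rw [← map_pow E.symm, ← map_pow E.symm, ← map_mul, ← map_mul, ← map_mul, ← map_mul, ← map_add, ← map_add,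
        hqC, map_zero]
      exact zero_mem _
    · rw [← IsLocalRing.map_maximalIdeal_of_surjective E.toRingHom E.surjective, hg, Ideal.map_span,
        Set.image_singleton]
      rfl
    · rw [mem_nonZeroDivisors_iff_right]
      intro t ht
      refine E.injective ((mem_nonZeroDivisors_iff_right.1 he _ ?_).trans (map_zero E).symm)
      rw [← E.apply_symm_apply e, ← map_mul, ht, map_zero]
  exact hqB.of_map AdicCompletion.maximalIdeal_eq_map.symm

end Groth.Agent.Node12
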