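import Groth.Agent.LA18.ColonKilling
import Groth.Agent.CAlg6.CompleteSurj
import Mathlib.RingTheory.MvPowerSeries.Rename
import Mathlib.RingTheory.PowerSeries.Basic

/-!
# Complete local rings with two generators satisfying a monic quadratic relation
-/

set_option autoImplicit false
set_option linter.style.haveILetI false
set_option maxHeartbeats 800000

universe u

open IsLocalRing

noncomputable section

namespace Groth.Agent.Node12

variable {K : Type u} [Field K] {B : Type u} [CommRing B] [IsLocalRing B]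
  [IsAdicComplete (maximalIdeal B) B]

/-- Evaluation of power series at an element of the maximal ideal. -/
theorem exists_eval (σ : K →+* B) (w : B) (hw : w ∈ maximalIdeal B) :
    ∃ ψ : PowerSeries K →+* B, ψ PowerSeries.X = w ∧ ∀ a, ψ (PowerSeries.C a) = σ a := by
  obtain ⟨φ, hC, hX⟩ := LA18.exists_powerSeries_hom (maximalIdeal B) σ (fun _ : Fin 1 => w) fun _ => hw
  let e : PowerSeries K ≃ₐ[K] MvPowerSeries (Fin 1) K := MvPowerSeries.renameEquiv K finOneEquiv.symm
  refine ⟨φ.comp e.toAlgHom.toRingHom, ?_, fun a => ?_⟩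
  · show φ (e (MvPowerSeries.X ())) = w
    rw [show e (MvPowerSeries.X ()) = MvPowerSeries.X (0 : Fin 1) by
      simp [e, MvPowerSeries.renameEquiv_apply]; exact congrArg _ (Subsingleton.elim _ _)]
    exact hX 0
  · show φ (e (algebraMap K (PowerSeries K) a)) = σ a
    rw [AlgEquiv.commutes]
    exact hC a

/-- A truncated power series differs from the series by a multiple of the power of the variable. -/
theorem eval_sub_sum_mem (σ : K →+* B) {w : B} (ψ : PowerSeries K →+* B) (hX : ψ PowerSeries.X = w)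
    (hC : ∀ a, ψ (PowerSeries.C a) = σ a) (S : PowerSeries K) (n : ℕ) :
    ψ S - ∑ i ∈ Finset.range n, σ (PowerSeries.coeff i S) * w ^ i ∈ Ideal.span {w ^ n} := by
  obtain ⟨R, hR⟩ : (PowerSeries.X : PowerSeries K) ^ n ∣
      S - ∑ i ∈ Finset.range n, PowerSeries.C (PowerSeries.coeff i S) * PowerSeries.X ^ i := by
    rw [PowerSeries.X_pow_dvd_iff]
    intro m hm
    simp [PowerSeries.coeff_X_pow, hm]
  have h := congrArg ψ hR
  simp only [map_sub, map_sum, map_mul, map_pow, hX, hC] at h
  rw [h]
  exact Ideal.mul_mem_right _ _ (Ideal.mem_span_singleton_self _)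

/-- Every element is `S(w) + T(w) z`. -/
theorem exists_decomp_quadratic (σ : K →+* B) (hσ : Function.Surjective ((residue B).comp σ))
    {z w : B} (hm : maximalIdeal B = Ideal.span {z, w}) {p r : K}
    (hzw : z ^ 2 = σ p * z * w + σ r * w ^ 2)
    (ψ : PowerSeries K →+* B) (hX : ψ PowerSeries.X = w) (hC : ∀ a, ψ (PowerSeries.C a) = σ a) (b : B) :
    ∃ S T : PowerSeries K, b = ψ S + ψ T * z := by
  have hwm : w ∈ maximalIdeal B := hm ▸ Ideal.subset_span (by simp)
  have hstep : ∀ b : B, ∃ c : K × K × B, b = σ c.1 + σ c.2.1 * z + w * c.2.2 := by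
    intro b
    obtain ⟨c, hc⟩ := hσ (residue B b)
    have h1 : b - σ c ∈ maximalIdeal B := by
      rw [← residue_eq_zero_iff, map_sub, ← hc]
      exact sub_self _
    rw [hm, Ideal.mem_span_pair] at h1
    obtain ⟨u, v, huv⟩ := h1
    obtain ⟨d, hd⟩ := hσ (residue B u)
    have h2 : u - σ d ∈ maximalIdeal B := by
      rw [← residue_eq_zero_iff, map_sub, ← hd]
      exact sub_self _
    rw [hm, Ideal.mem_span_pair] at h2
    obtain ⟨s, t, hst⟩ := h2
    exact ⟨(c, d, s * σ p * z + s * σ r * w + t * z + v), by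
      linear_combination -huv - z * hst + s * hzw⟩
  choose c hc using hstep
  let rec_ : ℕ → B := fun n => Nat.rec b (fun _ x => (c x).2.2) n
  let S : PowerSeries K := PowerSeries.mk fun n => (c (rec_ n)).1
  let T : PowerSeries K := PowerSeries.mk fun n => (c (rec_ n)).2.1
  refine ⟨S, T, ?_⟩
  have hn : ∀ n, b = ∑ i ∈ Finset.range n, σ (PowerSeries.coeff i S) * w ^ i +
      (∑ i ∈ Finset.range n, σ (PowerSeries.coeff i T) * w ^ i) * z + w ^ n * rec_ n := by
    intro n
    induction n with
    | zero => simp [rec_]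
    | succ n ih =>
      rw [Finset.sum_range_succ, Finset.sum_range_succ]
      simp only [S, T, PowerSeries.coeff_mk] at ih ⊢
      have h := hc (rec_ n)
      rw [show rec_ (n + 1) = (c (rec_ n)).2.2 from rfl, pow_succ]
      linear_combination ih + w ^ n * h
  have hmem : ∀ n, b - (ψ S + ψ T * z) ∈ maximalIdeal B ^ n := by
    intro n
    have hS := eval_sub_sum_mem σ ψ hX hC S n
    have hT := eval_sub_sum_mem σ ψ hX hC T n
    have key : b - (ψ S + ψ T * z) = w ^ n * rec_ n -
        (ψ S - ∑ i ∈ Finset.range n, σ (PowerSeries.coeff i S) * w ^ i) -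
        (ψ T - ∑ i ∈ Finset.range n, σ (PowerSeries.coeff i T) * w ^ i) * z := by
      linear_combination hn n
    have hle : Ideal.span {w ^ n} ≤ maximalIdeal B ^ n :=
      (Ideal.span_singleton_le_iff_mem _).2 (Ideal.pow_mem_pow hwm n)
    rw [key]
    exact sub_mem (sub_mem (Ideal.mul_mem_right _ _ (Ideal.pow_mem_pow hwm n)) (hle hS))
      (Ideal.mul_mem_right _ _ (hle hT))
  exact sub_eq_zero.1 (IsHausdorff.haus (I := maximalIdeal B) inferInstance _ fun n => by
    rw [smul_eq_mul, Ideal.mul_top, SModEq.zero]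
    exact hmem n)

omit [IsAdicComplete (maximalIdeal B) B] in
/-- With a regular element and a non principal maximal ideal, the second generator is regular. -/
theorem generator_mem_nonZeroDivisors {z w c : B} {p r : B} (hm : maximalIdeal B = Ideal.span {z, w})
    (hzw : z ^ 2 = p * z * w + r * w ^ 2) (hcm : c ∈ maximalIdeal B) (hc : c ∈ nonZeroDivisors B) :
    w ∈ nonZeroDivisors B := by
  rw [hm, Ideal.mem_span_pair] at hcm
  obtain ⟨s, t, hst⟩ := hcm
  rw [mem_nonZeroDivisors_iff_right]
  intro x hx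
  have h2 : x * (c * c) = 0 := by
    rw [← hst]
    linear_combination s ^ 2 * x * hzw +
      (s ^ 2 * p * z + s ^ 2 * r * w + 2 * s * t * z + t ^ 2 * w) * hx
  exact mem_nonZeroDivisors_iff_right.1 (mul_mem hc hc) x h2

/-- The decomposition is unique. -/
theorem decomp_quadratic_unique (σ : K →+* B) {z w : B} (hm : maximalIdeal B = Ideal.span {z, w})
    (hw : w ∈ nonZeroDivisors B) (hpr : maximalIdeal B ≠ Ideal.span {w})
    (ψ : PowerSeries K →+* B) (hX : ψ PowerSeries.X = w) (hC : ∀ a, ψ (PowerSeries.C a) = σ a)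
    {S T : PowerSeries K} (h : ψ S + ψ T * z = 0) : S = 0 ∧ T = 0 := by
  have hzm : z ∈ maximalIdeal B := hm ▸ Ideal.subset_span (by simp)
  have hwm : w ∈ maximalIdeal B := hm ▸ Ideal.subset_span (by simp)
  have hconst : ∀ R : PowerSeries K, ψ R ∈ maximalIdeal B → PowerSeries.constantCoeff R = 0 := by
    intro R hR
    by_contra hne
    exact (mem_maximalIdeal _).1 hR
      ((PowerSeries.isUnit_iff_constantCoeff.2 (isUnit_iff_ne_zero.2 hne)).map ψ)
  have key : ∀ n : ℕ, (PowerSeries.X : PowerSeries K) ^ n ∣ S ∧ (PowerSeries.X : PowerSeries K) ^ n ∣ T := by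
    intro n
    induction n with
    | zero => simp
    | succ n ih =>
      obtain ⟨⟨S', hS'⟩, ⟨T', hT'⟩⟩ := ih
      have h0 : ψ S' + ψ T' * z = 0 := by
        refine mem_nonZeroDivisors_iff_left.1 (pow_mem hw n) _ ?_
        rw [hS', hT', map_mul, map_mul, map_pow, hX] at h
        linear_combination h
      have hS0 : PowerSeries.constantCoeff S' = 0 := hconst S' (by
        rw [eq_neg_of_add_eq_zero_left h0]
        exact neg_mem (Ideal.mul_mem_left _ _ hzm))
      obtain ⟨S'', rfl⟩ := PowerSeries.X_dvd_iff.2 hS0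
      have hT0 : PowerSeries.constantCoeff T' = 0 := by
        by_contra hne
        obtain ⟨v, hv⟩ := (PowerSeries.isUnit_iff_constantCoeff.2 (isUnit_iff_ne_zero.2 hne)).map ψ
        refine hpr (le_antisymm ?_ ((Ideal.span_singleton_le_iff_mem _).2 hwm))
        rw [hm, Ideal.span_le]
        rintro x (rfl | rfl)
        · refine Ideal.mem_span_singleton'.2 ⟨-(↑v⁻¹ * ψ S''), ?_⟩
          rw [map_mul, hX, ← hv] at h0
          linear_combination -(↑v⁻¹ : B) * h0 + x * v.inv_mul
        · exact Ideal.mem_span_singleton_self _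
      refine ⟨⟨S'', by rw [hS', pow_succ]; ring⟩, ?_⟩
      obtain ⟨T'', rfl⟩ := PowerSeries.X_dvd_iff.2 hT0
      exact ⟨T'', by rw [hT', pow_succ]; ring⟩
  refine ⟨PowerSeries.ext fun n => ?_, PowerSeries.ext fun n => ?_⟩
  · simpa using PowerSeries.X_pow_dvd_iff.1 (key (n + 1)).1 n n.lt_succ_self
  · simpa using PowerSeries.X_pow_dvd_iff.1 (key (n + 1)).2 n n.lt_succ_self

end Groth.Agent.Node12
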