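import Groth.Agent.VarNorm.Branches
import Groth.Agent.Delta12.Local
import Mathlib.RingTheory.Length
import Mathlib.Tactic.LinearCombination

/-!
# Quadratic extensions of local rings: branches and locally principal maximal ideals
-/

set_option autoImplicit false
set_option linter.style.haveILetI false
set_option maxHeartbeats 1600000

universe u

open IsLocalRing

noncomputable section

namespace Groth.Agent.Node12

/-- The two cases for the number of roots of a monic quadratic over an algebraically closed field. -/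
theorem quad_roots_card (K : Type u) [Field K] [IsAlgClosed K] (P Q : K) :
    (P ^ 2 + 4 * Q ≠ 0 → ENat.card {r : K // r ^ 2 = P * r + Q} = 2) ∧
      (ENat.card {r : K // r ^ 2 = P * r + Q} = 2 → P ^ 2 + 4 * Q ≠ 0) := by
  obtain ⟨r₀, hr₀⟩ := IsAlgClosed.exists_root (Polynomial.X ^ 2 - Polynomial.C P * Polynomial.X - Polynomial.C Q : Polynomial K)
    (by
      have : (Polynomial.X ^ 2 - Polynomial.C P * Polynomial.X - Polynomial.C Q : Polynomial K).degree = 2 := by
        compute_degree!
      rw [this]; decide)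
  have hr : r₀ ^ 2 = P * r₀ + Q := by
    simp [Polynomial.IsRoot] at hr₀
    linear_combination hr₀
  have hset : {r : K | r ^ 2 = P * r + Q} = {r₀, P - r₀} := by
    ext r
    simp only [Set.mem_setOf_eq, Set.mem_insert_iff, Set.mem_singleton_iff]
    refine ⟨fun h => ?_, ?_⟩
    · have : (r - r₀) * (r - (P - r₀)) = 0 := by linear_combination h - hr
      rcases mul_eq_zero.1 this with h' | h'
      · exact Or.inl (sub_eq_zero.1 h')
      · exact Or.inr (sub_eq_zero.1 h')
    · rintro (rfl | rfl)
      · exact hr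
      · linear_combination hr
  have hcard : ENat.card {r : K // r ^ 2 = P * r + Q} = ({r₀, P - r₀} : Set K).encard := by
    rw [← hset]; rfl
  have hne : P ^ 2 + 4 * Q ≠ 0 ↔ r₀ ≠ P - r₀ := by
    rw [not_iff_not]
    refine ⟨fun h => ?_, fun h => by linear_combination (-(P - 2 * r₀) - 0) * h - 4 * hr⟩
    have : (2 * r₀ - P) ^ 2 = 0 := by linear_combination h + 4 * hr
    linear_combination (pow_eq_zero_iff two_ne_zero).1 this
  refine ⟨fun h => by rw [hcard]; exact Set.encard_pair (hne.1 h), fun h => hne.2 fun heq => ?_⟩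
  rw [hcard, ← heq, Set.pair_eq_singleton, Set.encard_singleton] at h
  norm_num at h

variable (A : Type u) [CommRing A] [IsLocalRing A] (C : Type u) [CommRing C] [Algebra A C]

/-- `θ` presents `C` as a quadratic extension of `A`, free modulo the maximal ideal. -/
structure IsQuadExt (θ : C) (P Q : A) : Prop where
  span : ∀ z : C, ∃ a b : A, z = algebraMap A C a + algebraMap A C b * θ
  indep : ∀ a b : A, algebraMap A C a + algebraMap A C b * θ ∈ (maximalIdeal A).map (algebraMap A C) →
    a ∈ maximalIdeal A ∧ b ∈ maximalIdeal A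
  rel : θ ^ 2 = algebraMap A C P * θ + algebraMap A C Q

variable {A C}

/-- Compatible maps to the algebraically closed residue field are maximal ideals with embeddings. -/
theorem sigma_embOf_equiv [Algebra.IsIntegral A C] :
    Nonempty ((Σ n : MaximalSpectrum C, VarNorm.EmbOf A C n) ≃
      {f : C →+* AlgebraicClosure (ResidueField A) // f.comp (algebraMap A C) = Brnch.toClosure A}) := by
  have hker : RingHom.ker (Brnch.toClosure A) = maximalIdeal A := by
    rw [Brnch.toClosure, RingHom.ker_comp_of_injective _ (RingHom.injective _), ker_residue]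
  have hmax : ∀ f : {f : C →+* AlgebraicClosure (ResidueField A) // f.comp (algebraMap A C) = Brnch.toClosure A},
      (RingHom.ker f.1).IsMaximal := fun f => by
    haveI : (RingHom.ker f.1).IsPrime := RingHom.ker_isPrime f.1
    refine Ideal.isMaximal_of_isIntegral_of_isMaximal_comap (R := A) _ ?_
    rw [RingHom.comap_ker, f.2, hker]
    exact maximalIdeal.isMaximal A
  let toFun : (Σ n : MaximalSpectrum C, VarNorm.EmbOf A C n) →
      {f : C →+* AlgebraicClosure (ResidueField A) // f.comp (algebraMap A C) = Brnch.toClosure A} :=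
    fun x => ⟨x.2.1.comp (Ideal.Quotient.mk x.1.asIdeal), (RingHom.comp_assoc _ _ _).trans x.2.2⟩
  refine ⟨Equiv.ofBijective toFun ⟨?_, fun f => ?_⟩⟩
  · rintro ⟨⟨I, hI⟩, σ⟩ ⟨⟨J, hJ⟩, τ⟩ h
    have h' : σ.1.comp (Ideal.Quotient.mk I) = τ.1.comp (Ideal.Quotient.mk J) := congrArg Subtype.val h
    have hk : ∀ (I : Ideal C) (_ : I.IsMaximal) (σ : C ⧸ I →+* AlgebraicClosure (ResidueField A)),
        RingHom.ker (σ.comp (Ideal.Quotient.mk I)) = I := fun I hI σ => by
      letI := Ideal.Quotient.field I
      rw [RingHom.ker_comp_of_injective _ σ.injective, Ideal.mk_ker]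
    obtain rfl : I = J := by rw [← hk I hI σ.1, ← hk J hJ τ.1, h']
    obtain rfl : σ = τ := Subtype.ext (Ideal.Quotient.ringHom_ext h')
    rfl
  · refine ⟨⟨⟨RingHom.ker f.1, hmax f⟩, ⟨Ideal.Quotient.lift _ f.1 fun z hz => hz, ?_⟩⟩, ?_⟩
    · rw [← RingHom.comp_assoc, Ideal.Quotient.lift_comp_mk, f.2]
    · exact Subtype.ext (Ideal.Quotient.lift_comp_mk _ _ _)

/-- The compatible maps of a quadratic extension are the roots of the reduced quadratic. -/
theorem IsQuadExt.hom_equiv {θ : C} {P Q : A} (h : IsQuadExt A C θ P Q) :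
    Nonempty ({f : C →+* AlgebraicClosure (ResidueField A) // f.comp (algebraMap A C) = Brnch.toClosure A} ≃
      {r : AlgebraicClosure (ResidueField A) // r ^ 2 = Brnch.toClosure A P * r + Brnch.toClosure A Q}) := by
  let π := Brnch.toClosure A
  have hπ : ∀ a ∈ maximalIdeal A, π a = 0 := fun a ha => by
    show algebraMap (ResidueField A) _ (residue A a) = 0
    rw [(residue_eq_zero_iff a).2 ha, map_zero]
  have hcomp : ∀ (f : {f : C →+* AlgebraicClosure (ResidueField A) // f.comp (algebraMap A C) = π}) (a : A),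
      f.1 (algebraMap A C a) = π a := fun f a => RingHom.congr_fun f.2 a
  have hwd : ∀ (r : AlgebraicClosure (ResidueField A)) (a b a' b' : A),
      algebraMap A C a + algebraMap A C b * θ = algebraMap A C a' + algebraMap A C b' * θ →
      π a + π b * r = π a' + π b' * r := fun r a b a' b' e => by
    obtain ⟨h1, h2⟩ := h.indep (a - a') (b - b') (by
      rw [show algebraMap A C (a - a') + algebraMap A C (b - b') * θ = 0 by
        rw [map_sub, map_sub]; linear_combination e]
      exact zero_mem _)
    have e1 := hπ _ h1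
    have e2 := hπ _ h2
    rw [map_sub] at e1 e2
    linear_combination e1 + r * e2
  choose α β hαβ using h.span
  refine ⟨Equiv.ofBijective (fun f => ⟨f.1 θ, by
    rw [← map_pow, h.rel, map_add, map_mul, hcomp, hcomp]⟩) ⟨fun f g e => ?_, fun r => ?_⟩⟩
  · refine Subtype.ext (RingHom.ext fun z => ?_)
    have e' : f.1 θ = g.1 θ := congrArg Subtype.val e
    rw [hαβ z, map_add, map_add, map_mul, map_mul, hcomp, hcomp, hcomp, hcomp, e']
  · obtain ⟨r, hr⟩ := r
    let ψ : C → AlgebraicClosure (ResidueField A) := fun z => π (α z) + π (β z) * r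
    have hψ : ∀ a b, ψ (algebraMap A C a + algebraMap A C b * θ) = π a + π b * r := fun a b =>
      hwd r _ _ a b (hαβ _).symm
    let f : C →+* AlgebraicClosure (ResidueField A) :=
      { toFun := ψ
        map_one' := by simpa using hψ 1 0
        map_zero' := by simpa using hψ 0 0
        map_add' := fun z w => by
          have : z + w = algebraMap A C (α z + α w) + algebraMap A C (β z + β w) * θ := by
            rw [map_add, map_add]; linear_combination hαβ z + hαβ w
          rw [this, hψ]
          simp only [ψ, map_add]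
          ring
        map_mul' := fun z w => by
          have : z * w = algebraMap A C (α z * α w + β z * β w * Q) +
              algebraMap A C (α z * β w + β z * α w + β z * β w * P) * θ := by
            simp only [map_add, map_mul]
            have hzw := congrArg₂ (fun s t => s * t) (hαβ z) (hαβ w)
            linear_combination hzw + algebraMap A C (β z) * algebraMap A C (β w) * h.rel
          rw [this, hψ]
          simp only [ψ, map_add, map_mul]
          linear_combination (-(π (β z) * π (β w))) * hr }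
    refine ⟨⟨f, RingHom.ext fun a => ?_⟩, Subtype.ext ?_⟩
    · simpa [f] using hψ a 0
    · simpa [f] using hψ 0 1

/-- A quadratic extension has two geometric branches iff its discriminant is a unit. -/
theorem IsQuadExt.card_embOf_iff [Algebra.IsIntegral A C] {θ : C} {P Q : A} (h : IsQuadExt A C θ P Q) :
    ENat.card (Σ n : MaximalSpectrum C, VarNorm.EmbOf A C n) = 2 ↔ IsUnit (P ^ 2 + 4 * Q) := by
  obtain ⟨e₁⟩ := sigma_embOf_equiv (A := A) (C := C)
  obtain ⟨e₂⟩ := h.hom_equiv
  rw [ENat.card_congr (e₁.trans e₂)]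
  obtain ⟨h1, h2⟩ := quad_roots_card (AlgebraicClosure (ResidueField A)) (Brnch.toClosure A P) (Brnch.toClosure A Q)
  have key : IsUnit (P ^ 2 + 4 * Q) ↔ Brnch.toClosure A P ^ 2 + 4 * Brnch.toClosure A Q ≠ 0 := by
    rw [← isUnit_map_iff (residue A), isUnit_iff_ne_zero,
      ← map_ne_zero (algebraMap (ResidueField A) (AlgebraicClosure (ResidueField A)))]
    simp [Brnch.toClosure, map_ofNat]
  rw [key]
  exact ⟨h2, h1⟩

/-- With unit discriminant the closed fibre is reduced. -/
theorem IsQuadExt.mem_map_of_sq {θ : C} {P Q : A} (h : IsQuadExt A C θ P Q) (hd : IsUnit (P ^ 2 + 4 * Q))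
    {z : C} (hz : z ^ 2 ∈ (maximalIdeal A).map (algebraMap A C)) :
    z ∈ (maximalIdeal A).map (algebraMap A C) := by
  obtain ⟨a, b, rfl⟩ := h.span z
  obtain ⟨h1, h2⟩ := h.indep (a ^ 2 + b ^ 2 * Q) (2 * a * b + b ^ 2 * P) (by
    convert hz using 1
    simp only [map_add, map_mul, map_pow, map_ofNat]
    linear_combination (-(algebraMap A C b ^ 2)) * h.rel)
  have h3 : (P ^ 2 + 4 * Q) * (b ^ 2 * b ^ 2) ∈ maximalIdeal A := by
    have : (P ^ 2 + 4 * Q) * (b ^ 2 * b ^ 2) =
        4 * b ^ 2 * (a ^ 2 + b ^ 2 * Q) + (b ^ 2 * P - 2 * a * b) * (2 * a * b + b ^ 2 * P) := by ring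
    rw [this]
    exact add_mem (Ideal.mul_mem_left _ _ h1) (Ideal.mul_mem_left _ _ h2)
  have hp := (maximalIdeal.isMaximal A).isPrime
  have hb : b ∈ maximalIdeal A := by
    have := (Ideal.unit_mul_mem_iff_mem _ hd).1 h3
    rcases hp.mem_or_mem this with h' | h' <;> exact hp.mem_of_pow_mem _ h'
  have ha : a ∈ maximalIdeal A := hp.mem_of_pow_mem 2 (by
    rw [show a ^ 2 = (a ^ 2 + b ^ 2 * Q) - b * (b * Q) by ring]
    exact sub_mem h1 (Ideal.mul_mem_right _ _ hb))
  exact add_mem (Ideal.mem_map_of_mem _ ha) (Ideal.mul_mem_right _ _ (Ideal.mem_map_of_mem _ hb))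

/-- With unit discriminant and principal extended maximal ideal all maximal ideals are locally principal. -/
theorem IsQuadExt.principalMax [Algebra.IsIntegral A C] {θ : C} {P Q : A} (h : IsQuadExt A C θ P Q)
    (hd : IsUnit (P ^ 2 + 4 * Q)) {t : C} (ht : (maximalIdeal A).map (algebraMap A C) = Ideal.span {t})
    (htreg : ∀ z, t * z = 0 → z = 0) : Delta12.PrincipalMax C := by
  intro n hn
  haveI := hn
  have hcomap : n.comap (algebraMap A C) = maximalIdeal A :=
    eq_maximalIdeal (Ideal.isMaximal_comap_of_isIntegral_of_isMaximal n)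
  have htn : (maximalIdeal A).map (algebraMap A C) ≤ n := Ideal.map_le_iff_le_comap.2 hcomap.ge
  have hone : (1 : C) ∉ n := (Ideal.ne_top_iff_one n).1 hn.ne_top
  refine ⟨t, htn (ht ▸ Ideal.mem_span_singleton_self t), fun y hy => ?_, fun z hz => ⟨1, hone, by simp [htreg z hz]⟩⟩
  rw [← ht]
  obtain ⟨a, b, rfl⟩ := h.span y
  set y := algebraMap A C a + algebraMap A C b * θ with hy_def
  set T := algebraMap A C (2 * a + b * P)
  set N := algebraMap A C (a ^ 2 + a * b * P - b ^ 2 * Q)
  have hyN : y * (y - T) = -N := by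
    simp only [y, T, N, map_sub, map_add, map_mul, map_pow, map_ofNat]
    linear_combination (algebraMap A C b ^ 2) * h.rel
  have hN : N ∈ (maximalIdeal A).map (algebraMap A C) := Ideal.mem_map_of_mem _ (by
    rw [← hcomap, Ideal.mem_comap]
    have := n.mul_mem_right (y - T) hy
    rw [hyN, neg_mem_iff] at this
    exact this)
  by_cases hT : y - T ∈ n
  · refine ⟨1, hone, ?_⟩
    rw [one_mul]
    refine h.mem_map_of_sq hd ?_
    have hT' : T ∈ (maximalIdeal A).map (algebraMap A C) := Ideal.mem_map_of_mem _ (by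
      rw [← hcomap, Ideal.mem_comap]
      have := n.sub_mem hy hT
      rwa [sub_sub_cancel] at this)
    rw [show y ^ 2 = y * (y - T) + y * T by ring, hyN]
    exact add_mem (neg_mem hN) (Ideal.mul_mem_left _ _ hT')
  · exact ⟨y - T, hT, by rw [mul_comm, hyN]; exact neg_mem hN⟩

end Groth.Agent.Node12
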