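import Groth.Agent.Node12.Completion
import Groth.Agent.Node12.QuadExt
import Groth.Agent.Delta12.Expand
import Mathlib.RingTheory.Ideal.KrullsHeightTheorem

/-!
# Nondegenerate quadratic points and the δ-invariant with two geometric branches
-/

set_option autoImplicit false
set_option linter.style.haveILetI false
set_option maxHeartbeats 1600000
set_option synthInstance.maxHeartbeats 100000
set_option backward.isDefEq.respectTransparency.types false

universe u

open IsLocalRing

noncomputable section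

namespace Groth.Agent.Node12

/-- In a ring with finitely many maximal ideals, all locally principal, their intersection is principal. -/
theorem exists_generator_inter_maximal {C : Type u} [CommRing C] (hC : Delta12.PrincipalMax C)
    [Finite (MaximalSpectrum C)] {I : Ideal C} (hI : ∀ z, z ∈ I ↔ ∀ n : Ideal C, n.IsMaximal → z ∈ n) :
    ∃ t, I = Ideal.span {t} := by
  classical
  cases nonempty_fintype (MaximalSpectrum C)
  choose π hπ hπgen hπreg using fun n : MaximalSpectrum C => hC n.asIdeal n.isMaximal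
  have hs : ∀ n m : MaximalSpectrum C, ∃ s, m ≠ n → s ∈ m.asIdeal ∧ s ∉ n.asIdeal := fun n m => by
    by_cases h : m = n
    · exact ⟨0, fun h' => absurd h h'⟩
    · obtain ⟨s, hs, hs'⟩ := SetLike.not_le_iff_exists.1 fun hle : m.asIdeal ≤ n.asIdeal =>
        h (MaximalSpectrum.ext (m.isMaximal.eq_of_le n.isMaximal.ne_top hle))
      exact ⟨s, fun _ => ⟨hs, hs'⟩⟩
  choose s hs using hs
  let e : MaximalSpectrum C → C := fun n => ∏ m ∈ Finset.univ.erase n, s n m
  have heout : ∀ n, e n ∉ n.asIdeal := fun n h => by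
    obtain ⟨m, hm, hm'⟩ := (Ideal.IsPrime.prod_mem_iff (p := n.asIdeal) (hp := n.isMaximal.isPrime)).1 h
    exact (hs n m (Finset.ne_of_mem_erase hm)).2 hm'
  have hein : ∀ n m : MaximalSpectrum C, m ≠ n → e n ∈ m.asIdeal := fun n m h =>
    (Ideal.IsPrime.prod_mem_iff (p := m.asIdeal) (hp := m.isMaximal.isPrime)).2
      ⟨m, Finset.mem_erase.2 ⟨h, Finset.mem_univ m⟩, (hs n m h).1⟩
  set t := ∑ n, π n * e n ^ 2 with ht_def
  have htI : t ∈ I := (hI t).2 fun n hn => Ideal.sum_mem _ fun m _ => by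
    by_cases h : m = ⟨n, hn⟩
    · subst h; exact Ideal.mul_mem_right _ _ (hπ ⟨n, hn⟩)
    · exact Ideal.mul_mem_left _ _ (Ideal.pow_mem_of_mem _ (hein m ⟨n, hn⟩ (Ne.symm h)) 2 two_pos)
  refine ⟨t, le_antisymm (fun y hy => ?_) ((Ideal.span_singleton_le_iff_mem _).2 htI)⟩
  by_contra hne
  let J : Ideal C := Submodule.comap (LinearMap.toSpanSingleton C C y) (Ideal.span {t})
  have hJ : ∀ u, u ∈ J ↔ u * y ∈ Ideal.span {t} := fun u => by
    simp [J, Submodule.mem_comap, LinearMap.toSpanSingleton_apply]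
  obtain ⟨n, hn, hJn⟩ := Ideal.exists_le_maximal J fun h => hne (by
    have h1 := (hJ 1).1 (h ▸ Submodule.mem_top)
    rwa [one_mul] at h1)
  let N : MaximalSpectrum C := ⟨n, hn⟩
  have hp := hn.isPrime
  have hsq : ∀ z ∈ n * n, ∃ e ∉ n, e * z ∈ Ideal.span {π N * π N} := fun z hz => by
    refine Submodule.mul_induction_on hz (fun a ha b hb => ?_) (fun a b ha hb => ?_)
    · obtain ⟨e₁, h₁, ha'⟩ := hπgen N a ha
      obtain ⟨e₂, h₂, hb'⟩ := hπgen N b hb
      refine ⟨e₁ * e₂, fun h => (hp.mem_or_mem h).elim h₁ h₂, ?_⟩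
      rw [show e₁ * e₂ * (a * b) = (e₁ * a) * (e₂ * b) by ring, ← Ideal.span_singleton_mul_span_singleton]
      exact Ideal.mul_mem_mul ha' hb'
    · obtain ⟨e₁, h₁, ha'⟩ := ha
      obtain ⟨e₂, h₂, hb'⟩ := hb
      refine ⟨e₁ * e₂, fun h => (hp.mem_or_mem h).elim h₁ h₂, ?_⟩
      rw [mul_add]
      refine add_mem ?_ ?_
      · rw [mul_comm e₁, mul_assoc]; exact Ideal.mul_mem_left _ _ ha'
      · rw [mul_assoc]; exact Ideal.mul_mem_left _ _ hb'
  have htsplit : t = π N * e N ^ 2 + ∑ m ∈ Finset.univ.erase N, π m * e m ^ 2 :=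
    (Finset.add_sum_erase _ (fun m => π m * e m ^ 2) (Finset.mem_univ N)).symm
  have hrest : ∑ m ∈ Finset.univ.erase N, π m * e m ^ 2 ∈ n * n := Ideal.sum_mem _ fun m hm => by
    refine Ideal.mul_mem_left _ _ ?_
    rw [pow_two]
    exact Ideal.mul_mem_mul (hein m N (Finset.ne_of_mem_erase hm).symm) (hein m N (Finset.ne_of_mem_erase hm).symm)
  obtain ⟨e', he', hz⟩ := hsq _ hrest
  obtain ⟨w, hw⟩ := Ideal.mem_span_singleton'.1 hz
  obtain ⟨e'', he'', hy'⟩ := hπgen N y ((hI y).1 hy n hn)
  obtain ⟨r, hr⟩ := Ideal.mem_span_singleton'.1 hy'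
  have hv : e' * e N ^ 2 + π N * w ∉ n := fun h => by
    have := (Ideal.add_mem_iff_left n (n.mul_mem_right w (hπ N))).1 h
    exact (hp.mem_or_mem this).elim he' fun h' => heout N (hp.mem_of_pow_mem 2 h')
  refine (hp.mem_or_mem (hJn (show (e' * e N ^ 2 + π N * w) * e'' ∈ J from ?_))).elim hv he''
  rw [hJ, Ideal.mem_span_singleton']
  refine ⟨e' * r, ?_⟩
  rw [htsplit]
  linear_combination (-r) * hw + (e' * e N ^ 2 + π N * w) * hr

variable {A : Type u} [CommRing A] [IsLocalRing A]

/-- A nondegenerate quadratic relation can be made exact, monic in the second generator. -/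
theorem IsQuadPt.exists_monic [IsNoetherianRing A] (h : IsQuadPt A) :
    ∃ x y P Q : A, maximalIdeal A = Ideal.span {x, y} ∧ y ^ 2 = P * x * y + Q * x ^ 2 ∧ IsUnit (P ^ 2 + 4 * Q) ∧
      x ∈ nonZeroDivisors A ∧ ∀ g, maximalIdeal A ≠ Ideal.span {g} := by
  obtain ⟨x, y, a, b, c, hm, hd, hq, hpr, e, hem, he⟩ := h
  -- make the relation exact
  have h3 : maximalIdeal A ^ 3 ≤ (maximalIdeal A * Ideal.span {x ^ 2} ⊔ maximalIdeal A * Ideal.span {x * y}) ⊔
      maximalIdeal A * Ideal.span {y ^ 2} := by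
    rw [pow_succ', ← Ideal.mul_sup, ← Ideal.mul_sup]
    refine Ideal.mul_mono_right ?_
    rw [pow_two, hm, Ideal.span_mul_span', Ideal.span_le]
    rintro _ ⟨s, hs, t, ht, rfl⟩
    rcases hs with rfl | rfl <;> rcases ht with rfl | rfl
    · exact Ideal.mem_sup_left (Ideal.mem_sup_left (Ideal.mem_span_singleton'.2 ⟨1, by ring⟩))
    · exact Ideal.mem_sup_left (Ideal.mem_sup_right (Ideal.mem_span_singleton'.2 ⟨1, by ring⟩))
    · exact Ideal.mem_sup_left (Ideal.mem_sup_right (Ideal.mem_span_singleton'.2 ⟨1, by ring⟩))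
    · exact Ideal.mem_sup_right (Ideal.mem_span_singleton'.2 ⟨1, by ring⟩)
  obtain ⟨u, hu, v₃, hv₃, e₁⟩ := Submodule.mem_sup.1 (h3 hq)
  obtain ⟨v₁, hv₁, v₂, hv₂, e₂⟩ := Submodule.mem_sup.1 hu
  obtain ⟨r₁, hr₁, rfl⟩ := Ideal.mem_mul_span_singleton.1 hv₁
  obtain ⟨r₂, hr₂, rfl⟩ := Ideal.mem_mul_span_singleton.1 hv₂
  obtain ⟨r₃, hr₃, rfl⟩ := Ideal.mem_mul_span_singleton.1 hv₃
  have hex : (a - r₁) * x ^ 2 + (b - r₂) * x * y + (c - r₃) * y ^ 2 = 0 := by
    linear_combination -e₁ - e₂
  have hd' : IsUnit (4 * (a - r₁) * (c - r₃) - (b - r₂) ^ 2) := by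
    rw [← isUnit_map_iff (residue A)] at hd ⊢
    simpa [(residue_eq_zero_iff _).2 hr₁, (residue_eq_zero_iff _).2 hr₂, (residue_eq_zero_iff _).2 hr₃] using hd
  -- make the coefficient of the second generator a unit
  have hcoord : ∃ x y a b c : A, maximalIdeal A = Ideal.span {x, y} ∧ IsUnit (4 * a * c - b ^ 2) ∧ IsUnit c ∧
      a * x ^ 2 + b * x * y + c * y ^ 2 = 0 := by
    set a' := a - r₁
    set b' := b - r₂
    set c' := c - r₃
    by_cases hc : IsUnit c'
    · exact ⟨x, y, a', b', c', hm, hd', hc, hex⟩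
    by_cases ha : IsUnit a'
    · exact ⟨y, x, c', b', a', by rw [hm, Set.pair_comm], by convert hd' using 1; ring, ha, by
        linear_combination hex⟩
    refine ⟨x - y, y, a', b' + 2 * a', a' + b' + c', ?_, by convert hd' using 1; ring, ?_, by
      linear_combination hex⟩
    · rw [hm]
      refine le_antisymm (Ideal.span_le.2 fun w hw => ?_) (Ideal.span_le.2 fun w hw => ?_)
      · rcases hw with hw | hw
        · exact Ideal.mem_span_pair.2 ⟨1, 1, by rw [hw]; ring⟩
        · exact Ideal.mem_span_pair.2 ⟨0, 1, by rw [Set.mem_singleton_iff] at hw; rw [hw]; ring⟩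
      · rcases hw with hw | hw
        · exact Ideal.mem_span_pair.2 ⟨1, -1, by rw [hw]; ring⟩
        · exact Ideal.mem_span_pair.2 ⟨0, 1, by rw [Set.mem_singleton_iff] at hw; rw [hw]; ring⟩
    · by_contra hbad
      have ha' := (mem_maximalIdeal _).2 ha
      have hc' := (mem_maximalIdeal _).2 hc
      have hb' : b' ∈ maximalIdeal A := by
        rw [show b' = (a' + b' + c') - a' - c' by ring]
        exact sub_mem (sub_mem ((mem_maximalIdeal _).2 hbad) ha') hc'
      refine (mem_maximalIdeal _).1 ?_ hd'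
      exact sub_mem (Ideal.mul_mem_left _ _ hc') (Ideal.pow_mem_of_mem _ hb' 2 two_pos)
  obtain ⟨x, y, a, b, c, hm, hd, hc, hex⟩ := hcoord
  obtain ⟨c', hc'⟩ := hc.exists_left_inv
  have hrel : y ^ 2 = -(b * c') * x * y + -(a * c') * x ^ 2 := by
    linear_combination c' * hex - y ^ 2 * hc'
  refine ⟨x, y, -(b * c'), -(a * c'), hm, hrel, ?_, ?_, hpr⟩
  · have : (-(b * c')) ^ 2 + 4 * -(a * c') = -((4 * a * c - b ^ 2) * c' ^ 2) := by
      linear_combination 4 * a * c' * hc'
    rw [this]
    exact (hd.mul ((IsUnit.of_mul_eq_one c hc').pow 2)).neg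
  · rw [mem_nonZeroDivisors_iff_right]
    intro z hz
    have hy : y * y * z = 0 := by linear_combination z * hrel + (-(b * c') * y + -(a * c') * x) * hz
    obtain ⟨α, β, hαβ⟩ := Ideal.mem_span_pair.1 (hm ▸ hem : e ∈ Ideal.span {x, y})
    refine (mem_nonZeroDivisors_iff_right.1 (mul_mem he he)) z ?_
    rw [← hαβ]
    linear_combination (α ^ 2 * x + 2 * α * β * y) * hz + β ^ 2 * hy

/-- A quadratic point is one dimensional with δ-invariant one and two geometric branches. -/
theorem IsQuadPt.invariants [IsNoetherianRing A] [IsReduced A] (h : IsQuadPt A) :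
    ringKrullDim A = 1 ∧ Curv2.deltaInv A = 1 ∧ Brnch.numGeomBranches A = 2 := by
  obtain ⟨x, y, P, Q, hm, hrel, hd, hx, hpr⟩ := h.exists_monic
  have hxm : x ∈ maximalIdeal A := hm ▸ Ideal.subset_span (by simp)
  have hym : y ∈ maximalIdeal A := hm ▸ Ideal.subset_span (by simp)
  have hdim : ringKrullDim A = 1 := by
    rw [← IsLocalRing.maximalIdeal_height_eq_ringKrullDim]
    have hmin : maximalIdeal A ∈ (Ideal.span {x}).minimalPrimes := by
      refine ⟨⟨(maximalIdeal.isMaximal A).isPrime, (Ideal.span_singleton_le_iff_mem _).2 hxm⟩,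
        fun p ⟨hp, hxp⟩ _ => ?_⟩
      rw [hm, Ideal.span_le]
      rintro t (ht | ht)
      · rw [ht]; exact hxp (Ideal.mem_span_singleton_self _)
      · rw [Set.mem_singleton_iff.1 ht]
        refine hp.mem_of_pow_mem 2 (hxp (Ideal.mem_span_singleton'.2 ⟨P * y + Q * x, ?_⟩))
        linear_combination -hrel
    have hle : (maximalIdeal A).height ≤ 1 := Ideal.height_le_one_of_isPrincipal_of_mem_minimalPrimes _ _ hmin
    have hne : (maximalIdeal A).height ≠ 0 := fun h0 =>
      Set.disjoint_left.1 (Ideal.disjoint_nonZeroDivisors_of_mem_minimalPrimes (Ideal.height_eq_zero_iff.1 h0))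
        hxm hx
    rw [show (maximalIdeal A).height = 1 from le_antisymm hle (Order.one_le_iff_pos.2 (pos_iff_ne_zero.2 hne))]
    rfl
  let F := FractionRing A
  have hxu : IsUnit (algebraMap A F x) := IsLocalization.map_units F (⟨x, hx⟩ : nonZeroDivisors A)
  obtain ⟨xi, hxi⟩ := hxu.exists_left_inv
  let θ : F := algebraMap A F y * xi
  have hθ : θ ^ 2 = algebraMap A F P * θ + algebraMap A F Q := by
    have h := congrArg (fun t => algebraMap A F t * xi ^ 2) hrel
    simp only [map_add, map_mul, map_pow] at h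
    linear_combination h + (algebraMap A F P * θ + algebraMap A F Q * (xi * algebraMap A F x + 1)) * hxi
  let S : Subalgebra A F :=
    { carrier := {z | ∃ a b : A, z = algebraMap A F a + algebraMap A F b * θ}
      mul_mem' := by
        rintro _ _ ⟨a, b, rfl⟩ ⟨a', b', rfl⟩
        refine ⟨a * a' + b * b' * Q, a * b' + b * a' + b * b' * P, ?_⟩
        simp only [map_add, map_mul]
        linear_combination algebraMap A F b * algebraMap A F b' * hθ
      add_mem' := by
        rintro _ _ ⟨a, b, rfl⟩ ⟨a', b', rfl⟩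
        exact ⟨a + a', b + b', by rw [map_add, map_add]; ring⟩
      algebraMap_mem' := fun a => ⟨a, 0, by rw [map_zero, zero_mul, add_zero]⟩ }
  let θS : S := ⟨θ, 0, 1, by rw [map_zero, map_one, zero_add, one_mul]⟩
  have hspan : ∀ z : S, ∃ a b : A, z = algebraMap A S a + algebraMap A S b * θS := fun z => by
    obtain ⟨a, b, hab⟩ := z.2
    exact ⟨a, b, Subtype.ext hab⟩
  have hinj : Function.Injective (algebraMap A S) := fun a b hab =>
    IsFractionRing.injective A F (congrArg Subtype.val hab)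
  have hxθ : algebraMap A S x * θS = algebraMap A S y := Subtype.ext (by
    show algebraMap A F x * θ = algebraMap A F y
    linear_combination algebraMap A F y * hxi)
  have hθS : θS ^ 2 = algebraMap A S P * θS + algebraMap A S Q := Subtype.ext hθ
  have hyθ : algebraMap A S y * θS = algebraMap A S (P * y + Q * x) := by
    simp only [map_add, map_mul]
    linear_combination (-θS + algebraMap A S P) * hxθ + algebraMap A S x * hθS
  -- multiples of `θ` in the ring
  have hmul : ∀ b ∈ maximalIdeal A, ∃ a ∈ maximalIdeal A, algebraMap A S b * θS = algebraMap A S a := fun b hb => by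
    obtain ⟨α, β, rfl⟩ := Ideal.mem_span_pair.1 (hm ▸ hb : b ∈ Ideal.span {x, y})
    refine ⟨α * y + β * (P * y + Q * x), add_mem (Ideal.mul_mem_left _ _ hym)
      (Ideal.mul_mem_left _ _ (add_mem (Ideal.mul_mem_left _ _ hym) (Ideal.mul_mem_left _ _ hxm))), ?_⟩
    rw [map_add (algebraMap A S) (α * x), map_add (algebraMap A S) (α * y), map_mul, map_mul, map_mul, map_mul]
    linear_combination algebraMap A S α * hxθ + algebraMap A S β * hyθ
  have hnot : ∀ b a : A, algebraMap A S b * θS = algebraMap A S a → b ∈ maximalIdeal A := fun b a hab => by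
    by_contra hb
    rw [mem_maximalIdeal, mem_nonunits_iff, not_not] at hb
    obtain ⟨b', hb'⟩ := hb.exists_left_inv
    refine hpr x (le_antisymm ?_ ((Ideal.span_singleton_le_iff_mem _).2 hxm))
    rw [hm, Ideal.span_le]
    rintro t (rfl | rfl)
    · exact Ideal.mem_span_singleton_self _
    · refine Ideal.mem_span_singleton'.2 ⟨a * b', hinj ?_⟩
      have h1 := congrArg (algebraMap A S) hb'
      rw [map_mul, map_one] at h1
      simp only [map_mul]
      linear_combination (-(algebraMap A S b' * algebraMap A S x)) * hab + algebraMap A S b' * algebraMap A S b * hxθ +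
        algebraMap A S t * h1
  have hmapm : (maximalIdeal A).map (algebraMap A S) = Ideal.span {algebraMap A S x} := by
    rw [hm, Ideal.map_span, Set.image_pair]
    refine le_antisymm (Ideal.span_le.2 ?_) (Ideal.span_mono (by simp))
    rintro t (rfl | rfl)
    · exact Ideal.mem_span_singleton_self _
    · exact Ideal.mem_span_singleton'.2 ⟨θS, by rw [← hxθ]; ring⟩
  have hext : IsQuadExt A S θS P Q := ⟨hspan, fun a b hab => by
    rw [hmapm, Ideal.mem_span_singleton'] at hab
    obtain ⟨w, hw⟩ := hab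
    obtain ⟨s, t, rfl⟩ := hspan w
    have h1 : algebraMap A S b * θS = algebraMap A S (s * x + t * y - a) := by
      simp only [map_add, map_sub, map_mul]
      linear_combination -hw + algebraMap A S t * hxθ
    have hb := hnot b _ h1
    obtain ⟨a', ha', e⟩ := hmul b hb
    refine ⟨?_, hb⟩
    rw [show a = s * x + t * y - a' by have := hinj (h1.symm.trans e); linear_combination -this]
    exact sub_mem (add_mem (Ideal.mul_mem_left _ _ hxm) (Ideal.mul_mem_left _ _ hym)) ha', hθS⟩
  haveI : Module.Finite A S := by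
    classical
    refine ⟨⟨{1, θS}, eq_top_iff.2 fun z _ => ?_⟩⟩
    obtain ⟨a, b, rfl⟩ := hspan z
    rw [Finset.coe_pair, Submodule.mem_span_pair]
    exact ⟨a, b, by rw [Algebra.smul_def, mul_one, Algebra.smul_def]⟩
  haveI : Algebra.IsIntegral A S := Algebra.IsIntegral.of_finite A S
  have hreg : ∀ z : S, algebraMap A S x * z = 0 → z = 0 := fun z hz => Subtype.ext (hxu.mul_right_eq_zero.1 (congrArg Subtype.val hz))
  have hP : Delta12.PrincipalMax S := hext.principalMax hd hmapm hreg
  have hrange : ∀ z : S, ∃ b, algebraMap A S x * z = algebraMap A S b := fun z => by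
    obtain ⟨a, b, rfl⟩ := hspan z
    exact ⟨a * x + b * y, by simp only [map_add, map_mul]; linear_combination algebraMap A S b * hxθ⟩
  refine ⟨hdim, ?_, ?_⟩
  · rw [Delta12.deltaInv_eq A S hinj x hx hreg hrange hP]
    let φ : A →ₗ[A] S ⧸ LinearMap.range (Algebra.linearMap A S) :=
      (LinearMap.range (Algebra.linearMap A S)).mkQ.comp (LinearMap.toSpanSingleton A S θS)
    have hφ : Function.Surjective φ := fun q => by
      obtain ⟨z, rfl⟩ := Submodule.Quotient.mk_surjective _ q
      obtain ⟨a, b, rfl⟩ := hspan z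
      refine ⟨b, (Submodule.Quotient.eq _).2 ⟨-a, ?_⟩⟩
      simp [Algebra.smul_def]
    have hker : LinearMap.ker φ = maximalIdeal A := by
      ext b
      rw [LinearMap.mem_ker]
      show Submodule.Quotient.mk (b • θS) = (0 : S ⧸ LinearMap.range (Algebra.linearMap A S)) ↔ _
      rw [Submodule.Quotient.mk_eq_zero, LinearMap.mem_range, Algebra.smul_def]
      exact ⟨fun ⟨a, ha⟩ => hnot b a ha.symm, fun hb => let ⟨a, _, ha⟩ := hmul b hb; ⟨a, ha.symm⟩⟩
    rw [← (φ.quotKerEquivOfSurjective hφ).length_eq, Module.length_eq_one_iff, hker]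
    exact isSimpleModule_iff_isCoatom.2 (maximalIdeal.isMaximal A).out
  · obtain ⟨E⟩ := Delta12.exists_equiv_integralClosure A S hinj x hx hreg hrange hP
    rw [VarNorm.numGeomBranches_eq A F (minimalPrimes.finite_of_isNoetherianRing A)]
    have hext' : IsQuadExt A (integralClosure A F) (E θS) P Q := by
      refine ⟨fun z => ?_, fun a b hab => ?_, ?_⟩
      · obtain ⟨a, b, hab⟩ := hspan (E.symm z)
        exact ⟨a, b, by rw [← E.apply_symm_apply z, hab, map_add, map_mul, E.commutes, E.commutes]⟩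
      · refine hext.indep a b ?_
        have := Ideal.mem_map_of_mem (E.symm : integralClosure A F →+* S) hab
        rw [Ideal.map_map] at this
        simp only [RingHom.coe_coe, map_add, map_mul, AlgEquiv.commutes, AlgEquiv.symm_apply_apply] at this
        rwa [show (E.symm : integralClosure A F →+* S).comp (algebraMap A _) = algebraMap A S from
          RingHom.ext E.symm.commutes] at this
      · rw [← map_pow, hθS, map_add, map_mul, E.commutes, E.commutes]
    exact hext'.card_embOf_iff.2 hd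

/-- δ-invariant one and two geometric branches force a quadratic point. -/
theorem isQuadPt_of_invariants [IsReduced A] (hN : CAlg.IsNagata A) (hdim : ringKrullDim A = 1)
    (hδ : Curv2.deltaInv A = 1) (hbr : Brnch.numGeomBranches A = 2) : IsQuadPt A := by
  haveI := hN.1
  obtain ⟨hfin, hP, hfinM⟩ := Delta12.normalization_facts A hN hdim
  obtain ⟨r, hrm, hr, -⟩ := Delta12.exists_regular A hdim
  let F := FractionRing A
  let C := integralClosure A F
  haveI : Algebra.IsIntegral A C := Algebra.IsIntegral.of_finite A _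
  have hinj : Function.Injective (algebraMap A C) := fun a b hab =>
    IsFractionRing.injective A F (congrArg Subtype.val hab)
  have hover : ∀ n : Ideal C, n.IsMaximal → n.comap (algebraMap A C) = maximalIdeal A := fun n hn =>
    eq_maximalIdeal (Ideal.isMaximal_comap_of_isIntegral_of_isMaximal n)
  set R := LinearMap.range (Algebra.linearMap A C) with hR_def
  haveI : IsSimpleModule A (C ⧸ R) := Module.length_eq_one_iff.1 hδ
  haveI : Nontrivial (C ⧸ R) := IsSimpleModule.nontrivial A _
  obtain ⟨q, hq⟩ := exists_ne (0 : C ⧸ R)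
  obtain ⟨θ, rfl⟩ := Submodule.Quotient.mk_surjective _ q
  have hθ : ∀ a, θ ≠ algebraMap A C a := fun a h => hq ((Submodule.Quotient.mk_eq_zero _).2 ⟨a, h.symm⟩)
  have hspan : ∀ z : C, ∃ a b : A, z = algebraMap A C a + algebraMap A C b * θ := fun z => by
    obtain ⟨b, hb⟩ := IsSimpleModule.toSpanSingleton_surjective A hq (Submodule.Quotient.mk z)
    rw [LinearMap.toSpanSingleton_apply, ← Submodule.Quotient.mk_smul] at hb
    obtain ⟨a, ha⟩ := (Submodule.Quotient.eq _).1 hb.symm
    exact ⟨a, b, by rw [Algebra.linearMap_apply] at ha; rw [ha, Algebra.smul_def]; ring⟩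
  have hann : ∀ b ∈ maximalIdeal A, ∀ z : C, ∃ a, algebraMap A C a = algebraMap A C b * z := fun b hb z => by
    obtain ⟨J, hJ, ⟨φ⟩⟩ := isSimpleModule_iff_quot_maximal.1 (inferInstance : IsSimpleModule A (C ⧸ R))
    have hb0 : b • (Submodule.Quotient.mk z : C ⧸ R) = 0 := φ.injective (by
      obtain ⟨s, hs⟩ := Submodule.Quotient.mk_surjective _ (φ (Submodule.Quotient.mk z))
      rw [map_smul, map_zero, ← hs, ← Submodule.Quotient.mk_smul, Submodule.Quotient.mk_eq_zero, smul_eq_mul]
      rw [eq_maximalIdeal hJ]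
      exact Ideal.mul_mem_right _ _ hb)
    rw [← Submodule.Quotient.mk_smul, Submodule.Quotient.mk_eq_zero] at hb0
    obtain ⟨a, ha⟩ := hb0
    exact ⟨a, by rw [Algebra.linearMap_apply] at ha; rw [ha, Algebra.smul_def]⟩
  set M := (maximalIdeal A).map (algebraMap A C) with hM_def
  have hMle : ∀ n : Ideal C, n.IsMaximal → M ≤ n := fun n hn => Ideal.map_le_iff_le_comap.2 (hover n hn).ge
  have hmem : ∀ z ∈ M, ∃ a ∈ maximalIdeal A, algebraMap A C a = z := fun z hz => by
    have hex : ∃ a, algebraMap A C a = z := by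
      refine Submodule.span_induction (p := fun z _ => ∀ w, ∃ a, algebraMap A C a = z * w) ?_ ?_ ?_ ?_ hz 1 |>.imp
        fun a ha => ha.trans (mul_one z)
      · rintro _ ⟨b, hb, rfl⟩ w
        exact hann b hb w
      · exact fun w => ⟨0, by rw [map_zero, zero_mul]⟩
      · intro s t _ _ hs ht w
        obtain ⟨a, ha⟩ := hs w
        obtain ⟨b, hb⟩ := ht w
        exact ⟨a + b, by rw [map_add, ha, hb, add_mul]⟩
      · intro c s _ hs w
        obtain ⟨a, ha⟩ := hs (c * w)
        exact ⟨a, by rw [ha, smul_eq_mul]; ring⟩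
    obtain ⟨a, rfl⟩ := hex
    obtain ⟨n, hn⟩ := Ideal.exists_maximal C
    refine ⟨a, ?_, rfl⟩
    rw [← hover n hn]
    exact hMle n hn hz
  have hindep : ∀ a b : A, algebraMap A C a + algebraMap A C b * θ ∈ M → a ∈ maximalIdeal A ∧ b ∈ maximalIdeal A := by
    intro a b hab
    obtain ⟨d, -, hd⟩ := hmem _ hab
    have hb : b ∈ maximalIdeal A := by
      by_contra hb
      rw [mem_maximalIdeal, mem_nonunits_iff, not_not] at hb
      obtain ⟨b', hb'⟩ := hb.exists_left_inv
      refine hθ (b' * (d - a)) ?_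
      have h1 := congrArg (algebraMap A C) hb'
      rw [map_mul, map_one] at h1
      rw [map_mul, map_sub, hd]
      linear_combination -θ * h1
    refine ⟨?_, hb⟩
    obtain ⟨a', ha', e⟩ := hmem _ ((Ideal.add_mem_iff_left M (Ideal.mul_mem_right θ _ (Ideal.mem_map_of_mem _ hb))).1 hab)
    rwa [← hinj e]
  obtain ⟨Q, P, hrel⟩ := hspan (θ ^ 2)
  have hext : IsQuadExt A C θ P Q := ⟨hspan, hindep, by rw [hrel, add_comm]⟩
  have hd : IsUnit (P ^ 2 + 4 * Q) := hext.card_embOf_iff.1 (by
    rw [← VarNorm.numGeomBranches_eq A F (minimalPrimes.finite_of_isNoetherianRing A)]; exact hbr)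
  have hrad : M.IsRadical := (Ideal.isRadical_iff_pow_one_lt 2 one_lt_two).2 fun z hz => hext.mem_map_of_sq hd hz
  have hMeq : ∀ z, z ∈ M ↔ ∀ n : Ideal C, n.IsMaximal → z ∈ n := fun z => by
    refine ⟨fun hz n hn => hMle n hn hz, fun hz => hrad ?_⟩
    rw [Ideal.radical_eq_sInf, Ideal.mem_sInf]
    rintro p ⟨hMp, hp⟩
    haveI := hp
    refine hz p (Ideal.isMaximal_of_isIntegral_of_isMaximal_comap (R := A) p ?_)
    rw [← (maximalIdeal.isMaximal A).eq_of_le (Ideal.IsPrime.ne_top inferInstance) (Ideal.map_le_iff_le_comap.1 hMp)]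
    exact maximalIdeal.isMaximal A
  obtain ⟨t, ht⟩ := exists_generator_inter_maximal hP hMeq
  have htreg : ∀ z, t * z = 0 → z = 0 := fun z hz => by
    obtain ⟨w, hw⟩ := Ideal.mem_span_singleton'.1 (ht ▸ Ideal.mem_map_of_mem _ hrm : algebraMap A C r ∈ Ideal.span {t})
    have hrz : algebraMap A C r * z = 0 := by rw [← hw, mul_assoc, hz, mul_zero]
    exact Subtype.ext ((IsLocalization.map_units F (⟨r, hr⟩ : nonZeroDivisors A)).mul_right_eq_zero.1
      (congrArg Subtype.val hrz))
  obtain ⟨x, hxm, hx⟩ := hmem t (ht ▸ Ideal.mem_span_singleton_self t)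
  obtain ⟨y, hym, hy⟩ := hmem (t * θ) (Ideal.mul_mem_right _ _ (ht ▸ Ideal.mem_span_singleton_self t))
  refine ⟨x, y, -Q, -P, 1, ?_, ?_, ?_, fun g hg => ?_, r, hrm, hr⟩
  · refine le_antisymm (fun a ha => ?_) (Ideal.span_le.2 (by rintro s (rfl | rfl) <;> assumption))
    obtain ⟨w, hw⟩ := Ideal.mem_span_singleton'.1 (ht ▸ Ideal.mem_map_of_mem _ ha : algebraMap A C a ∈ Ideal.span {t})
    obtain ⟨s, b, rfl⟩ := hspan w
    refine Ideal.mem_span_pair.2 ⟨s, b, hinj ?_⟩
    rw [map_add, map_mul, map_mul, hx, hy, ← hw]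
    ring
  · rw [show 4 * -Q * 1 - (-P) ^ 2 = -(P ^ 2 + 4 * Q) by ring]
    exact hd.neg
  · have h0 : -Q * x ^ 2 + -P * x * y + 1 * y ^ 2 = 0 := hinj (by
      simp only [map_add, map_mul, map_neg, map_pow, map_one, map_zero, hx, hy]
      linear_combination t ^ 2 * hext.rel)
    rw [h0]
    exact zero_mem _
  · obtain ⟨a, rfl⟩ := Ideal.mem_span_singleton'.1 (hg ▸ hxm : x ∈ Ideal.span {g})
    obtain ⟨b, rfl⟩ := Ideal.mem_span_singleton'.1 (hg ▸ hym : y ∈ Ideal.span {g})
    rw [map_mul] at hx hy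
    have hgreg : algebraMap A C g * (algebraMap A C b - algebraMap A C a * θ) = 0 := by
      linear_combination hy - θ * hx
    have hba : algebraMap A C b - algebraMap A C a * θ = 0 := htreg _ (by
      rw [← hx]; linear_combination algebraMap A C a * hgreg)
    have ha : a ∈ maximalIdeal A := (hindep (-b) a (by
      rw [map_neg, show -algebraMap A C b + algebraMap A C a * θ = 0 by linear_combination -hba]
      exact zero_mem _)).2
    obtain ⟨w, hw⟩ := Ideal.mem_span_singleton'.1
      (ht ▸ Ideal.mem_map_of_mem _ (hg ▸ Ideal.mem_span_singleton_self g) : algebraMap A C g ∈ Ideal.span {t})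
    have h1 : algebraMap A C a * w = 1 := sub_eq_zero.1 (htreg _ (by
      linear_combination hx + algebraMap A C a * hw))
    obtain ⟨n, hn⟩ := Ideal.exists_maximal C
    refine hn.ne_top ((Ideal.eq_top_iff_one n).2 ?_)
    rw [← h1]
    exact Ideal.mul_mem_right _ _ (hMle n hn (Ideal.mem_map_of_mem _ ha))

end Groth.Agent.Node12
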