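import Groth.Agent.Node12.Etale
import Groth.Agent.Unr55.SmoothDescScheme
import Groth.Agent.Open62.SmoothBaseChange
import Groth.Agent.FBase64.ProductDim
import Groth.Prelude.Def_FDesc

/-!
# Descent of at-worst-nodal singularities along étale coverings and field extensions
-/

set_option autoImplicit false
set_option linter.style.haveILetI false
set_option maxHeartbeats 1600000
set_option synthInstance.maxHeartbeats 100000
set_option backward.isDefEq.respectTransparency.types false

universe u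

open CategoryTheory Limits AlgebraicGeometry TopologicalSpace

noncomputable section

namespace Groth.Agent.Node12

/-- A nonempty fibre over a closed point contains a closed point. -/
theorem exists_closed_over {Y X : Scheme.{u}} [JacobsonSpace Y] (π : Y ⟶ X) (y₀ : Y)
    (hx : IsClosed ({π y₀} : Set X)) : ∃ y : Y, π y = π y₀ ∧ IsClosed ({y} : Set Y) := by
  obtain ⟨y, hy, hyc⟩ := nonempty_inter_closedPoints (Z := π ⁻¹' {π y₀}) ⟨y₀, rfl⟩
    (hx.preimage π.continuous).isLocallyClosed
  exact ⟨y, hy, hyc⟩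

/-- Dimension one and at worst nodal singularities descend along étale coverings. -/
theorem atWorstNodal_of_etale_cover (k : Type u) [Field k] (X : Scheme.{u}) [X.Over (Spec (CommRingCat.of k))]
    [LocallyOfFiniteType (X ↘ (Spec (CommRingCat.of k)))] {ι : Type*} (Y : ι → Scheme.{u}) (π : ∀ i, Y i ⟶ X)
    [∀ i, Etale (π i)] (hsurj : ∀ x : X, ∃ i, x ∈ Set.range (π i))
    (hequi : ∀ i, ∀ Z ∈ irreducibleComponents (Y i : Type u), topologicalKrullDim Z = 1)
    (hnod : ∀ i, @Curv2.AtWorstNodal k _ (Y i) ⟨π i ≫ (X ↘ (Spec (CommRingCat.of k)))⟩) :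
    (∀ Z ∈ irreducibleComponents (X : Type u), topologicalKrullDim Z = 1) ∧ Curv2.AtWorstNodal k X := by
  have : IsLocallyNoetherian X := LocallyOfFiniteType.isLocallyNoetherian (X ↘ Spec (CommRingCat.of k))
  have : JacobsonSpace X := LocallyOfFiniteType.jacobsonSpace (X ↘ Spec (CommRingCat.of k))
  have hJ : ∀ i, JacobsonSpace (Y i) := fun i =>
    LocallyOfFiniteType.jacobsonSpace (π i ≫ (X ↘ Spec (CommRingCat.of k)))
  have hN : ∀ i, IsLocallyNoetherian (Y i) := fun i =>
    LocallyOfFiniteType.isLocallyNoetherian (π i ≫ (X ↘ Spec (CommRingCat.of k)))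
  have hpt : ∀ x : X, IsClosed ({x} : Set X) → ∃ i, ∃ y : Y i, π i y = x ∧ IsClosed ({y} : Set (Y i)) := by
    intro x hx
    obtain ⟨i, y₀, rfl⟩ := hsurj x
    have := hJ i
    exact ⟨i, exists_closed_over (π i) y₀ hx⟩
  refine ⟨(equidim_one_iff X).2 fun x hx => ?_, fun x hx => ?_⟩
  · obtain ⟨i, y, rfl, hy⟩ := hpt x hx
    have := hJ i
    have := hN i
    letI : Algebra (X.presheaf.stalk (π i y)) ((Y i).presheaf.stalk y) := ((π i).stalkMap y).hom.toAlgebra
    obtain ⟨_, _, hm⟩ := Unr55.stalkMap_facts (π i) y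
    rw [← Unr55.ringKrullDim_eq_of_map_maximalIdeal _ _ hm]
    exact (equidim_one_iff (Y i)).1 (hequi i) y hy
  · obtain ⟨i, y, rfl, hy⟩ := hpt x hx
    rcases hnod i y hy with ⟨U, hyU, hU⟩ | hn
    · exact Or.inl (Unr55.smooth_nhd_of_flatAt (X ↘ Spec (CommRingCat.of k)) (π i) y
        (Flat.stalkMap (π i) y) ⟨U, hyU, hU⟩)
    · exact Or.inr ((isNode_iff_of_etale k X (π i) y).2 hn)

/-- Nodes do not change along a finite separable extension of the ground field. -/
theorem isNode_of_separable (k : Type u) [Field k] (k' : Type u) [Field k'] [Algebra k k']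
    [FiniteDimensional k k'] [Algebra.IsSeparable k k']
    (X : Scheme.{u}) [X.Over (Spec (CommRingCat.of k'))] [LocallyOfFiniteType (X ↘ (Spec (CommRingCat.of k')))]
    (x : X) (h : Curv2.IsNode k' X x) :
    @Curv2.IsNode k _ X ⟨(X ↘ (Spec (CommRingCat.of k'))) ≫ Spec.map (CommRingCat.ofHom (algebraMap k k'))⟩ x := by
  let iX : X.Over (Spec (CommRingCat.of k)) :=
    ⟨(X ↘ (Spec (CommRingCat.of k'))) ≫ Spec.map (CommRingCat.ofHom (algebraMap k k'))⟩
  have : IsFinite (Spec.map (CommRingCat.ofHom (algebraMap k k'))) := by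
    rw [IsFinite.SpecMap_iff]
    exact RingHom.finite_algebraMap.2 inferInstance
  have : LocallyOfFiniteType (X ↘ Spec (CommRingCat.of k)) :=
    (inferInstance : LocallyOfFiniteType ((X ↘ (Spec (CommRingCat.of k'))) ≫ Spec.map (CommRingCat.ofHom (algebraMap k k'))))
  letI : Algebra k' (X.presheaf.stalk x) := Curv2.stalkAlgebra k' X x
  letI : Algebra k (X.presheaf.stalk x) := Curv2.stalkAlgebra k X x
  have : IsScalarTower k k' (X.presheaf.stalk x) := IsScalarTower.of_algebraMap_eq' (by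
    have h : Spec.map (CommRingCat.ofHom (Curv2.stalkMap k X x)) =
        Spec.map (CommRingCat.ofHom ((Curv2.stalkMap k' X x).comp (algebraMap k k'))) := by
      rw [CommRingCat.ofHom_comp, Spec.map_comp]
      refine (Curves2.fromSpecStalk_struct (X ↘ Spec (CommRingCat.of k)) x).symm.trans ?_
      exact (Category.assoc _ _ _).symm.trans (congrArg (fun m => m ≫ _)
        (Curves2.fromSpecStalk_struct (X ↘ Spec (CommRingCat.of k')) x))
    exact congrArg CommRingCat.Hom.hom (Spec.map_injective h))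
  obtain ⟨hx, hsep, hQ⟩ := (Node12.isNode_iff _).1 h
  exact (Node12.isNode_iff _).2 ⟨hx, Algebra.IsSeparable.trans k k' _, hQ⟩

/-- At worst nodal singularities are kept when composing with an étale map of points. -/
theorem atWorstNodal_of_separable (k : Type u) [Field k] (k' : Type u) [Field k'] [Algebra k k']
    [FiniteDimensional k k'] [Algebra.IsSeparable k k'] [Etale (Spec.map (CommRingCat.ofHom (algebraMap k k')))]
    (X : Scheme.{u}) [X.Over (Spec (CommRingCat.of k'))] [LocallyOfFiniteType (X ↘ (Spec (CommRingCat.of k')))]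
    (h : Curv2.AtWorstNodal k' X) :
    @Curv2.AtWorstNodal k _ X ⟨(X ↘ (Spec (CommRingCat.of k'))) ≫ Spec.map (CommRingCat.ofHom (algebraMap k k'))⟩ := by
  intro x hx
  rcases h x hx with ⟨U, hxU, hU⟩ | hn
  · refine Or.inl ⟨U, hxU, ?_⟩
    show Smooth (U.ι ≫ (X ↘ (Spec (CommRingCat.of k'))) ≫ Spec.map (CommRingCat.ofHom (algebraMap k k')))
    rw [← Category.assoc]
    infer_instance
  · exact Or.inr (isNode_of_separable k k' X x hn)

/-- Dimension one and at worst nodal singularities descend along field extensions. -/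
theorem atWorstNodal_of_bc (k : Type u) [Field k] (X : Scheme.{u}) [X.Over (Spec (CommRingCat.of k))]
    [LocallyOfFiniteType (X ↘ (Spec (CommRingCat.of k)))] (K : Type u) [Field K] [Algebra k K]
    (hequi : ∀ Z ∈ irreducibleComponents (Curv2.bc k X K : Type u), topologicalKrullDim Z = 1)
    (hnod : @Curv2.AtWorstNodal K _ (Curv2.bc k X K) ⟨Curv2.bcSnd k X K⟩) :
    (∀ Z ∈ irreducibleComponents (X : Type u), topologicalKrullDim Z = 1) ∧ Curv2.AtWorstNodal k X := by
  refine ⟨fun Z hZ => ?_, fun x hx => ?_⟩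
  · have h := FBase64.image_topologicalKrullDim_components_bc (X ↘ Spec (CommRingCat.of k)) K
    obtain ⟨T, hT, hTZ⟩ := h.ge ⟨Z, hZ, rfl⟩
    exact hTZ.symm.trans (hequi T hT)
  let Ω := AlgebraicClosure K
  let : (Curv2.bc k X K).Over (Spec (CommRingCat.of K)) := ⟨Curv2.bcSnd k X K⟩
  have : LocallyOfFiniteType ((Curv2.bc k X K) ↘ Spec (CommRingCat.of K)) :=
    (inferInstance : LocallyOfFiniteType (pullback.snd (X ↘ Spec (CommRingCat.of k))
      (Spec.map (CommRingCat.ofHom (algebraMap k K)))))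
  have : JacobsonSpace (Curv2.bc k X K) := LocallyOfFiniteType.jacobsonSpace ((Curv2.bc k X K) ↘ Spec (CommRingCat.of K))
  have hsurjK : Surjective (Spec.map (CommRingCat.ofHom (algebraMap k K))) :=
    ⟨fun s => ⟨IsLocalRing.closedPoint K, Subsingleton.elim _ _⟩⟩
  have : Surjective (Curv2.bcFst k X K) :=
    (inferInstance : Surjective (pullback.fst (X ↘ Spec (CommRingCat.of k))
      (Spec.map (CommRingCat.ofHom (algebraMap k K)))))
  obtain ⟨y₀, rfl⟩ := (Curv2.bcFst k X K).surjective x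
  obtain ⟨y, hy, hyc⟩ := exists_closed_over (Curv2.bcFst k X K) y₀ hx
  rw [← hy] at hx ⊢
  have hK : IsPullback (Curv2.bcFst k X K) ((Curv2.bc k X K) ↘ Spec (CommRingCat.of K))
      (X ↘ Spec (CommRingCat.of k)) (Spec.map (CommRingCat.ofHom (algebraMap k K))) :=
    IsPullback.of_hasPullback _ _
  rcases hnod y hyc with ⟨U, hyU, hU⟩ | hn
  · have : Flat (Spec.map (CommRingCat.ofHom (algebraMap k K))) := by
      rw [HasRingHomProperty.Spec_iff (P := @Flat)]
      exact RingHom.flat_algebraMap_iff.mpr inferInstance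
    have h1 : y ∈ ((Curv2.bc k X K) ↘ Spec (CommRingCat.of K)).smoothLocus :=
      (Scheme.Hom.mem_smoothLocus).2 ((Unr55.exists_smooth_iff _ y).1 ⟨U, hyU, hU⟩)
    rw [Open62.smoothLocus_of_isPullback_flat hK] at h1
    refine Or.inl ((Unr55.exists_smooth_iff _ _).2 ?_)
    exact (Scheme.Hom.mem_smoothLocus).1 h1
  · refine Or.inr ?_
    let : (Curv2.bc K (Curv2.bc k X K) Ω).Over (Spec (CommRingCat.of Ω)) := ⟨Curv2.bcSnd K (Curv2.bc k X K) Ω⟩
    have hΩ : IsPullback (Curv2.bcFst K (Curv2.bc k X K) Ω) ((Curv2.bc K (Curv2.bc k X K) Ω) ↘ Spec (CommRingCat.of Ω))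
        ((Curv2.bc k X K) ↘ Spec (CommRingCat.of K)) (Spec.map (CommRingCat.ofHom (algebraMap K Ω))) :=
      IsPullback.of_hasPullback _ _
    have hsq : IsPullback (Curv2.bcFst K (Curv2.bc k X K) Ω ≫ Curv2.bcFst k X K)
        ((Curv2.bc K (Curv2.bc k X K) Ω) ↘ Spec (CommRingCat.of Ω)) (X ↘ Spec (CommRingCat.of k))
        (Spec.map (CommRingCat.ofHom (algebraMap k Ω))) := by
      have h := hΩ.paste_horiz hK
      rwa [← Spec.map_comp, ← CommRingCat.ofHom_comp, ← IsScalarTower.algebraMap_eq k K Ω] at h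
    obtain ⟨-, z, rfl, hz⟩ := hn
    obtain ⟨hx', hsep, hQ, -⟩ := Node12.of_isOrdDoublePt hsq z hz
    exact (Node12.isNode_iff _).2 ⟨hx', hsep, hQ⟩

end Groth.Agent.Node12
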