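import Groth.Agent.Node12.Point
import Groth.Agent.Curves2.NodeReduced
import Groth.Agent.Unr55.EtStalk
import Groth.Agent.Crv77.Basic
import Groth.Agent.TopDim50.Basic
import Groth.Agent.Ega11.SchemeDimFormula

/-!
# Nodes and étale morphisms
-/

set_option autoImplicit false
set_option linter.style.haveILetI false
set_option maxHeartbeats 1600000
set_option synthInstance.maxHeartbeats 100000
set_option backward.isDefEq.respectTransparency.types false

universe u

open CategoryTheory Limits AlgebraicGeometry TopologicalSpace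

noncomputable section

namespace Groth.Agent.Node12

/-- Being a node is invariant under étale morphisms. -/
theorem isNode_iff_of_etale (k : Type u) [Field k] (X : Scheme.{u}) [X.Over (Spec (CommRingCat.of k))]
    [LocallyOfFiniteType (X ↘ (Spec (CommRingCat.of k)))] {Y : Scheme.{u}} (π : Y ⟶ X) [Etale π] (y : Y) :
    Curv2.IsNode k X (π y) ↔ @Curv2.IsNode k _ Y ⟨π ≫ (X ↘ (Spec (CommRingCat.of k)))⟩ y := by
  let iY : Y.Over (Spec (CommRingCat.of k)) := ⟨π ≫ (X ↘ Spec (CommRingCat.of k))⟩
  have : LocallyOfFiniteType (Y ↘ Spec (CommRingCat.of k)) :=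
    (inferInstance : LocallyOfFiniteType (π ≫ (X ↘ Spec (CommRingCat.of k))))
  have : IsLocallyNoetherian X := LocallyOfFiniteType.isLocallyNoetherian (X ↘ Spec (CommRingCat.of k))
  have : IsLocallyNoetherian Y := LocallyOfFiniteType.isLocallyNoetherian (Y ↘ Spec (CommRingCat.of k))
  letI : Algebra k (X.presheaf.stalk (π y)) := Curv2.stalkAlgebra k X (π y)
  letI : Algebra k (Y.presheaf.stalk y) := Curv2.stalkAlgebra k Y y
  letI : Algebra (X.presheaf.stalk (π y)) (Y.presheaf.stalk y) := (π.stalkMap y).hom.toAlgebra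
  obtain ⟨_, _, hm⟩ := Unr55.stalkMap_facts π y
  have : IsScalarTower k (X.presheaf.stalk (π y)) (Y.presheaf.stalk y) := IsScalarTower.of_algebraMap_eq' (by
    have h : Spec.map (CommRingCat.ofHom (Curv2.stalkMap k Y y)) =
        Spec.map (CommRingCat.ofHom (Curv2.stalkMap k X (π y)) ≫ π.stalkMap y) := by
      rw [Spec.map_comp]
      refine Eq.trans ?_ (congrArg (fun m => Spec.map (π.stalkMap y) ≫ m)
        (Curves2.fromSpecStalk_struct (X ↘ Spec (CommRingCat.of k)) (π y)))
      rw [Scheme.SpecMap_stalkMap_fromSpecStalk_assoc]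
      exact (Curves2.fromSpecStalk_struct (Y ↘ Spec (CommRingCat.of k)) y).symm
    exact congrArg CommRingCat.Hom.hom (Spec.map_injective h))
  have : Algebra.EssFiniteType (X.presheaf.stalk (π y)) (Y.presheaf.stalk y) := LocallyOfFiniteType.stalkMap π y
  have : Algebra.FormallyUnramified (X.presheaf.stalk (π y)) (Y.presheaf.stalk y) := FormallyUnramified.stalkMap π y
  constructor
  · intro h
    obtain ⟨-, hsep, hQ⟩ := (Node12.isNode_iff _).1 h
    have hsepY := Algebra.IsSeparable.trans k (IsLocalRing.ResidueField (X.presheaf.stalk (π y)))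
      (IsLocalRing.ResidueField (Y.presheaf.stalk y))
    have := Node12.essFiniteType_residueField (k := k) y
    have : Algebra.FormallyUnramified k (IsLocalRing.ResidueField (Y.presheaf.stalk y)) :=
      Algebra.FormallyUnramified.of_isSeparable k _
    have : Module.Finite k (IsLocalRing.ResidueField (Y.presheaf.stalk y)) :=
      Algebra.FormallyUnramified.finite_of_free k _
    exact (Node12.isNode_iff _).2 ⟨Node12.isClosed_of_finite (k := k) y, hsepY, hQ.map hm⟩
  · intro h
    have := Curves2.isReduced_stalk_of_isNode k Y y h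
    have : Module.FaithfullyFlat (X.presheaf.stalk (π y)) (Y.presheaf.stalk y) :=
      Module.FaithfullyFlat.of_flat_of_isLocalHom
    have : _root_.IsReduced (X.presheaf.stalk (π y)) :=
      isReduced_of_injective _ (FaithfulSMul.algebraMap_injective (X.presheaf.stalk (π y)) (Y.presheaf.stalk y))
    obtain ⟨-, hsep, hQ⟩ := (Node12.isNode_iff _).1 h
    have hsep' : Algebra.IsSeparable k (IsLocalRing.ResidueField (X.presheaf.stalk (π y))) :=
      Algebra.isSeparable_tower_bot_of_isSeparable k _ (IsLocalRing.ResidueField (Y.presheaf.stalk y))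
    have := Node12.essFiniteType_residueField (k := k) (π y)
    have : Algebra.FormallyUnramified k (IsLocalRing.ResidueField (X.presheaf.stalk (π y))) :=
      Algebra.FormallyUnramified.of_isSeparable k _
    have : Module.Finite k (IsLocalRing.ResidueField (X.presheaf.stalk (π y))) :=
      Algebra.FormallyUnramified.finite_of_free k _
    exact (Node12.isNode_iff _).2 ⟨Node12.isClosed_of_finite (k := k) (π y), hsep', hQ.of_map hm⟩

/-- A Jacobson scheme is one-dimensional at each component exactly when all its closed points have one-dimensional local rings. -/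
theorem equidim_one_iff (X : Scheme.{u}) [JacobsonSpace X] :
    (∀ Z ∈ irreducibleComponents (X : Type u), topologicalKrullDim Z = 1) ↔
      ∀ x : X, IsClosed ({x} : Set X) → ringKrullDim (X.presheaf.stalk x) = 1 := by
  constructor
  · intro hequi x hx
    obtain ⟨Z, hZ, hxZ⟩ : ∃ Z ∈ irreducibleComponents (X : Type u), x ∈ Z :=
      ⟨irreducibleComponent x, irreducibleComponent_mem_irreducibleComponents x, mem_irreducibleComponent⟩
    have hcl : IsClosed Z := isClosed_of_mem_irreducibleComponents Z hZ
    refine le_antisymm ((Crv77.stalk_dim_le x).trans ?_) ?_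
    · rw [TopDim50.dim_eq_iSup_irreducibleComponents]
      exact iSup₂_le fun W hW => (hequi W hW).le
    rw [ringKrullDim_stalk_eq_coheight]
    have hη : hZ.1.genericPoint ≠ x := fun h => by
      have h2 : closure {hZ.1.genericPoint} = Z := by
        rw [hZ.1.genericPoint_closure_eq, hcl.closure_eq]
      rw [h, hx.closure_eq] at h2
      have h1 := hequi Z hZ
      subst h2
      haveI : Subsingleton (IrreducibleCloseds ({x} : Set X)) := ⟨fun a b => IrreducibleCloseds.ext
        ((a.isIrreducible.nonempty.eq_univ).trans b.isIrreducible.nonempty.eq_univ.symm)⟩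
      have h0 : topologicalKrullDim ({x} : Set X) ≤ 0 := Order.krullDim_nonpos_of_subsingleton
      rw [h1] at h0
      exact not_lt.2 h0 zero_lt_one
    have hsp : hZ.1.genericPoint ⤳ x := by
      rw [specializes_iff_mem_closure, hZ.1.genericPoint_closure_eq]
      exact subset_closure hxZ
    have hlt : x < hZ.1.genericPoint :=
      lt_of_le_not_ge hsp fun h => hη (Specializes.antisymm hsp h).eq
    exact_mod_cast Order.one_le_iff_pos.2 (Order.coheight_pos.2 fun hmax => hlt.not_ge (hmax hlt.le))
  · intro h Z hZ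
    have hdim : topologicalKrullDim X ≤ 1 := by
      refine Ega11.SchemeDimFormula.dim_le_of_stalk X fun z => ?_
      obtain ⟨c, hc, hcc⟩ := nonempty_inter_closedPoints
        (Set.singleton_nonempty z |>.mono subset_closure) isClosed_closure.isLocallyClosed
      rw [← h c hcc, ringKrullDim_stalk_eq_coheight, ringKrullDim_stalk_eq_coheight]
      exact WithBot.coe_le_coe.2 (Order.coheight_anti (show c ≤ z from specializes_iff_mem_closure.2 hc))
    refine le_antisymm ((topologicalKrullDim_subspace_le (X := X) Z).trans hdim) ?_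
    have hcl : IsClosed Z := isClosed_of_mem_irreducibleComponents Z hZ
    obtain ⟨c, hc, hcc⟩ := nonempty_inter_closedPoints hZ.1.nonempty hcl.isLocallyClosed
    have hne : Z ≠ {c} := fun hZc => by
      have h1 := h c hcc
      rw [ringKrullDim_stalk_eq_coheight] at h1
      have hmax : IsMax c := fun z hz => by
        have hsub : Z ⊆ closure {z} := by
          rw [hZc]; exact Set.singleton_subset_iff.2 (specializes_iff_mem_closure.1 hz)
        have h2 := hZ.2 isIrreducible_singleton.closure hsub
        have h3 : z ∈ Z := h2 (subset_closure rfl)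
        rw [hZc] at h3
        exact le_of_eq h3
      rw [Order.coheight_eq_zero.2 hmax] at h1
      exact zero_ne_one h1
    haveI : Nonempty Z := ⟨⟨c, hc⟩⟩
    let a : IrreducibleCloseds Z := ⟨{⟨c, hc⟩}, isIrreducible_singleton, by
      have : ({⟨c, hc⟩} : Set Z) = Subtype.val ⁻¹' {c} := by ext z; simp [Subtype.ext_iff]
      rw [this]; exact IsClosed.preimage continuous_subtype_val hcc⟩
    haveI : IrreducibleSpace Z := Subtype.irreducibleSpace hZ.1
    let b : IrreducibleCloseds Z := ⟨Set.univ, IrreducibleSpace.isIrreducible_univ Z, isClosed_univ⟩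
    have hab : a < b := by
      refine lt_of_le_of_ne (fun z _ => trivial) fun e => hne (Set.eq_singleton_iff_unique_mem.2 ⟨hc, fun z hz => ?_⟩)
      have h2 : (⟨z, hz⟩ : Z) ∈ (a : Set Z) := e ▸ (trivial : (⟨z, hz⟩ : Z) ∈ (Set.univ : Set Z))
      exact congrArg Subtype.val (Set.mem_singleton_iff.1 h2)
    exact Order.LTSeries.length_le_krullDim ((RelSeries.singleton _ a).snoc b hab)

/-- Dimension one and at worst nodal singularities pass to étale schemes. -/
theorem atWorstNodal_of_etale (k : Type u) [Field k] (X : Scheme.{u}) [X.Over (Spec (CommRingCat.of k))]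
    [LocallyOfFiniteType (X ↘ (Spec (CommRingCat.of k)))]
    (hequi : ∀ Z ∈ irreducibleComponents (X : Type u), topologicalKrullDim Z = 1) (hX : Curv2.AtWorstNodal k X)
    {Y : Scheme.{u}} [Y.Over (Spec (CommRingCat.of k))] (π : Y ⟶ X) [Etale π]
    (hπ : π ≫ (X ↘ (Spec (CommRingCat.of k))) = Y ↘ (Spec (CommRingCat.of k))) :
    (∀ Z ∈ irreducibleComponents (Y : Type u), topologicalKrullDim Z = 1) ∧ Curv2.AtWorstNodal k Y := by
  have : LocallyOfFiniteType (Y ↘ Spec (CommRingCat.of k)) := hπ ▸ inferInstance
  have : JacobsonSpace X := LocallyOfFiniteType.jacobsonSpace (X ↘ Spec (CommRingCat.of k))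
  have : JacobsonSpace Y := LocallyOfFiniteType.jacobsonSpace (Y ↘ Spec (CommRingCat.of k))
  have : IsLocallyNoetherian X := LocallyOfFiniteType.isLocallyNoetherian (X ↘ Spec (CommRingCat.of k))
  have : IsLocallyNoetherian Y := LocallyOfFiniteType.isLocallyNoetherian (Y ↘ Spec (CommRingCat.of k))
  have hcl : ∀ y : Y, IsClosed ({y} : Set Y) → IsClosed ({π y} : Set X) := fun y hy =>
    π.closePoints_subset_preimage_closedPoints hy
  refine ⟨(equidim_one_iff Y).2 fun y hy => ?_, fun y hy => ?_⟩
  · letI : Algebra (X.presheaf.stalk (π y)) (Y.presheaf.stalk y) := (π.stalkMap y).hom.toAlgebra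
    obtain ⟨_, _, hm⟩ := Unr55.stalkMap_facts π y
    rw [Unr55.ringKrullDim_eq_of_map_maximalIdeal _ _ hm, (equidim_one_iff X).1 hequi _ (hcl y hy)]
  · rcases hX (π y) (hcl y hy) with ⟨U, hxU, hU⟩ | hn
    · refine Or.inl ⟨π ⁻¹ᵁ U, hxU, ?_⟩
      have e : (π ⁻¹ᵁ U).ι ≫ (Y ↘ Spec (CommRingCat.of k)) = (π ∣_ U) ≫ U.ι ≫ (X ↘ Spec (CommRingCat.of k)) := by
        rw [morphismRestrict_ι_assoc, hπ]
      rw [e]
      infer_instance
    · refine Or.inr ?_
      convert (isNode_iff_of_etale k X π y).1 hn
      exact hπ.symm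

end Groth.Agent.Node12
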