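import Groth.Agent.Node12.Closed
import Groth.Agent.Gor18.Regular
import Groth.Agent.Gor18.Local
import Groth.Agent.Gor18.Basic
import Groth.Agent.FBase64.PointCmp

/-!
# Nodal curves are Gorenstein and geometrically reduced
-/

set_option autoImplicit false
set_option linter.style.haveILetI false
set_option maxHeartbeats 1600000
set_option synthInstance.maxHeartbeats 100000
set_option backward.isDefEq.respectTransparency.types false

universe u

open IsLocalRing

noncomputable section

namespace Groth.Agent.Node12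

/-- At a quadratic point the square of the maximal ideal is a multiple of it by a regular element. -/
theorem IsQuadPt.exists_sq_eq {A : Type u} [CommRing A] [IsLocalRing A] [IsNoetherianRing A] (h : IsQuadPt A) :
    ∃ z w : A, maximalIdeal A = Ideal.span {z, w} ∧ maximalIdeal A ^ 2 = Ideal.span {w} * maximalIdeal A ∧
      w ∈ nonZeroDivisors A := by
  obtain ⟨x, y, a, b, c, hm, hd, hq, -, e, hem, he⟩ := h
  obtain ⟨z, w, p, r, s, hzw, hp, hr⟩ : ∃ z w p r s : A, maximalIdeal A = Ideal.span {z, w} ∧ IsUnit p ∧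
      p * z ^ 2 + r * z * w + s * w ^ 2 ∈ maximalIdeal A ^ 3 := by
    by_cases ha : IsUnit a
    · exact ⟨x, y, a, b, c, hm, ha, hq⟩
    by_cases hc : IsUnit c
    · exact ⟨y, x, c, b, a, by rw [hm, Set.pair_comm], hc, by convert hq using 1; ring⟩
    · have hb : IsUnit b := by
        by_contra hb
        exact (mem_maximalIdeal _).1 (sub_mem (Ideal.mul_mem_left _ _ ((mem_maximalIdeal _).2 hc))
          (Ideal.pow_mem_of_mem _ ((mem_maximalIdeal _).2 hb) 2 two_pos)) hd
      refine ⟨x, y - x, a + b + c, b + 2 * c, c, ?_, ?_, by convert hq using 1; ring⟩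
      · rw [hm]
        refine le_antisymm (Ideal.span_le.2 ?_) (Ideal.span_le.2 ?_)
        · rintro t (rfl | rfl) <;> rw [SetLike.mem_coe, Ideal.mem_span_pair]
          · exact ⟨1, 0, by ring⟩
          · exact ⟨1, 1, by ring⟩
        · rintro t (rfl | rfl) <;> rw [SetLike.mem_coe, Ideal.mem_span_pair]
          · exact ⟨1, 0, by ring⟩
          · exact ⟨-1, 1, by ring⟩
      · by_contra hu
        have := sub_mem (sub_mem ((mem_maximalIdeal _).2 hu) ((mem_maximalIdeal _).2 ha)) ((mem_maximalIdeal _).2 hc)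
        rw [show a + b + c - a - c = b by ring] at this
        exact (mem_maximalIdeal _).1 this hb
  have hzm : z ∈ maximalIdeal A := hzw ▸ Ideal.subset_span (by simp)
  have hwm : w ∈ maximalIdeal A := hzw ▸ Ideal.subset_span (by simp)
  have hsq : maximalIdeal A ^ 2 = Ideal.span {w} * maximalIdeal A := by
    refine le_antisymm (le_span_of_le_sup_sq ?_) (by
      rw [pow_two]; exact Ideal.mul_mono_left ((Ideal.span_singleton_le_iff_mem _).2 hwm))
    rw [show maximalIdeal A * maximalIdeal A ^ 2 = maximalIdeal A ^ 3 by ring]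
    conv_lhs => rw [pow_two]
    rw [Ideal.mul_le]
    intro u hu v hv
    rw [hzw, Ideal.mem_span_pair] at hu hv
    obtain ⟨u₁, u₂, rfl⟩ := hu
    obtain ⟨v₁, v₂, rfl⟩ := hv
    obtain ⟨p', hp'⟩ := hp.exists_left_inv
    have e : (u₁ * z + u₂ * w) * (v₁ * z + v₂ * w) =
        w * ((u₁ * v₂ + u₂ * v₁ - u₁ * v₁ * p' * r) * z + (u₂ * v₂ - u₁ * v₁ * p' * s) * w) +
          u₁ * v₁ * p' * (p * z ^ 2 + r * z * w + s * w ^ 2) := by
      linear_combination -(u₁ * v₁ * z ^ 2) * hp'
    rw [e]
    exact add_mem (Ideal.mem_sup_left (Ideal.mul_mem_mul (Ideal.mem_span_singleton_self _)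
      (add_mem (Ideal.mul_mem_left _ _ hzm) (Ideal.mul_mem_left _ _ hwm))))
      (Ideal.mem_sup_right (Ideal.mul_mem_left _ _ hr))
  refine ⟨z, w, hzw, hsq, ?_⟩
  have h1 : e * e ∈ maximalIdeal A ^ 2 := by rw [pow_two]; exact Ideal.mul_mem_mul hem hem
  rw [hsq, Ideal.mem_span_singleton_mul] at h1
  obtain ⟨v, -, hv⟩ := h1
  have := mul_mem he he
  rw [← hv] at this
  exact (mul_mem_nonZeroDivisors.1 this).1

/-- A quadratic point is Gorenstein. -/
theorem IsQuadPt.isGorenstein {A : Type u} [CommRing A] [IsLocalRing A] [IsNoetherianRing A] (h : IsQuadPt A) :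
    LocCoh.IsGorensteinLocalRing A := by
  obtain ⟨z, w, hzw, hsq, hw⟩ := h.exists_sq_eq
  obtain ⟨-, -, -, -, -, -, -, -, hpr, -⟩ := h
  have hwm : w ∈ maximalIdeal A := hzw ▸ Ideal.subset_span (by simp)
  have hzm : z ∈ maximalIdeal A := hzw ▸ Ideal.subset_span (by simp)
  have hreg : IsSMulRegular A w := fun s t hst => by
    simp only [smul_eq_mul] at hst
    exact sub_eq_zero.1 (mem_nonZeroDivisors_iff_left.1 hw _ (by rw [mul_sub, hst, sub_self]))
  rw [Gor18.gor_quotient_iff hwm hreg]
  let R := A ⧸ Ideal.span {w}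
  haveI : IsLocalRing R := Gor18.isLocalRing_quotient hwm
  have hmR : maximalIdeal R = Ideal.span {Ideal.Quotient.mk _ z} := by
    rw [← IsLocalRing.map_maximalIdeal_of_surjective _ Ideal.Quotient.mk_surjective, hzw, Ideal.map_span,
      Set.image_pair, Ideal.span_insert, show Ideal.Quotient.mk (Ideal.span {w}) w = 0 from
        Ideal.Quotient.eq_zero_iff_mem.2 (Ideal.mem_span_singleton_self w)]
    simp
  have hsqR : maximalIdeal R * maximalIdeal R = ⊥ := by
    rw [← IsLocalRing.map_maximalIdeal_of_surjective _ Ideal.Quotient.mk_surjective, ← Ideal.map_mul, ← pow_two, hsq,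
      Ideal.map_eq_bot_iff_le_ker, Ideal.mk_ker]
    exact Ideal.mul_le_left
  have hz0 : Ideal.Quotient.mk (Ideal.span {w}) z ≠ 0 := fun h0 => hpr w (by
    refine le_antisymm ?_ ((Ideal.span_singleton_le_iff_mem _).2 hwm)
    rw [hzw, Ideal.span_le]
    rintro t (rfl | rfl)
    · exact Ideal.Quotient.eq_zero_iff_mem.1 h0
    · exact Ideal.mem_span_singleton_self _)
  haveI : IsArtinianRing R := by
    rw [isArtinianRing_iff_isNilpotent_maximalIdeal]
    exact ⟨2, by rw [pow_two, hsqR]; rfl⟩
  rw [Gor18.artinian_gor_iff_simple_socle]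
  have hsoc : LocCoh.torsionBy (maximalIdeal R) R = maximalIdeal R := by
    ext t
    rw [LocCoh.torsionBy, Submodule.mem_torsionBySet_iff]
    refine ⟨fun ht => ?_, fun ht s => ?_⟩
    · rw [mem_maximalIdeal]
      intro hu
      exact hz0 (hu.mul_left_eq_zero.1 (ht ⟨_, hmR ▸ Ideal.mem_span_singleton_self _⟩))
    · rw [← Ideal.mem_bot, ← hsqR, smul_eq_mul]
      exact Ideal.mul_mem_mul s.2 ht
  rw [hsoc, isSimpleModule_iff_quot_maximal]
  let g : R →ₗ[R] maximalIdeal R :=
    LinearMap.toSpanSingleton R _ ⟨Ideal.Quotient.mk _ z, hmR ▸ Ideal.mem_span_singleton_self _⟩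
  have hg : Function.Surjective g := fun t => by
    obtain ⟨s, hs⟩ := Ideal.mem_span_singleton'.1 (hmR ▸ t.2 : (t : R) ∈ Ideal.span {Ideal.Quotient.mk _ z})
    exact ⟨s, Subtype.ext hs⟩
  have hker : LinearMap.ker g = maximalIdeal R := by
    refine ((maximalIdeal.isMaximal R).eq_of_le ?_ fun t ht => ?_).symm
    · intro h0
      have h1 : g 1 = 0 := LinearMap.mem_ker.1 (h0 ▸ Submodule.mem_top)
      exact hz0 (by simpa [g] using congrArg Subtype.val h1)
    · refine LinearMap.mem_ker.2 (Subtype.ext ?_)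
      show t * Ideal.Quotient.mk _ z = 0
      rw [← Ideal.mem_bot, ← hsqR]
      exact Ideal.mul_mem_mul ht (hmR ▸ Ideal.mem_span_singleton_self _)
  exact ⟨maximalIdeal R, maximalIdeal.isMaximal R,
    ⟨((Submodule.quotEquivOfEq _ _ hker.symm).trans (g.quotKerEquivOfSurjective hg)).symm⟩⟩

open CategoryTheory Limits AlgebraicGeometry

attribute [local instance] Curv2.stalkAlgebra

/-- Nodal curves are Gorenstein and geometrically reduced. -/
theorem gorenstein_geometricallyReduced (k : Type u) [Field k] (X : Scheme.{u}) [X.Over (Spec (CommRingCat.of k))]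
    [LocallyOfFiniteType (X ↘ (Spec (CommRingCat.of k)))]
    (hequi : ∀ Z ∈ irreducibleComponents (X : Type u), topologicalKrullDim Z = 1) (hX : Curv2.AtWorstNodal k X) :
    (∀ x : X, LocCoh.IsGorensteinLocalRing (X.presheaf.stalk x)) ∧
      GeometricallyReduced (X ↘ (Spec (CommRingCat.of k))) := by
  have : JacobsonSpace X := LocallyOfFiniteType.jacobsonSpace (X ↘ Spec (CommRingCat.of k))
  have : IsLocallyNoetherian X := LocallyOfFiniteType.isLocallyNoetherian (X ↘ Spec (CommRingCat.of k))
  have : AlgebraicGeometry.IsReduced X := Curves2.isReduced_of_atWorstNodal k X hX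
  refine ⟨fun x => ?_, ?_⟩
  · by_cases hx : IsClosed ({x} : Set X)
    · rcases hX x hx with ⟨U, hxU, hU⟩ | hn
      · have h1 : x ∈ (X ↘ Spec (CommRingCat.of k)).smoothLocus := by
          have h2 : (⟨x, hxU⟩ : U) ∈ (U.ι ≫ (X ↘ Spec (CommRingCat.of k))).smoothLocus := by
            rw [Scheme.Hom.smoothLocus_eq_top_iff.2 hU]; trivial
          rw [← Scheme.Hom.preimage_smoothLocus_eq] at h2
          exact h2
        haveI := VarGal.regular_of_mem_smoothLocus (k := k) _ h1
        exact Gor18.regular_gor _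
      · exact ((isNode_iff x).1 hn).2.2.isGorenstein
    · obtain ⟨c, hc, hcc⟩ := nonempty_inter_closedPoints
        (Set.singleton_nonempty x |>.mono subset_closure) isClosed_closure.isLocallyClosed
      have h1 : c < x := lt_of_le_not_ge (specializes_iff_mem_closure.2 hc) fun h => hx (by
        have e : c = x := (Specializes.antisymm h (specializes_iff_mem_closure.2 hc)).eq.symm ▸ rfl
        exact e ▸ hcc)
      have hd : ringKrullDim (X.presheaf.stalk c) = 1 := (equidim_one_iff X).1 hequi c hcc
      rw [ringKrullDim_stalk_eq_coheight] at hd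
      have hd' : Order.coheight c = 1 := WithBot.coe_eq_coe.1 hd
      have h0 : Order.coheight x = 0 := by
        have := Order.coheight_add_one_le h1
        rw [hd'] at this
        generalize Order.coheight x = n at this
        cases n with
        | top => simp at this
        | coe n => norm_cast at this ⊢; omega
      haveI : Ring.KrullDimLE 0 (X.presheaf.stalk x) := by
        rw [Ring.krullDimLE_iff, ringKrullDim_stalk_eq_coheight, h0]; rfl
      letI : Field (X.presheaf.stalk x) := Ring.KrullDimLE.isField_of_isReduced.toField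
      exact Gor18.regular_gor _
  · let Ω := AlgebraicClosure k
    let Z := Curv2.bc k X Ω
    let : Z.Over (Spec (CommRingCat.of Ω)) := ⟨Curv2.bcSnd k X Ω⟩
    have : LocallyOfFiniteType (Z ↘ Spec (CommRingCat.of Ω)) :=
      (inferInstance : LocallyOfFiniteType (pullback.snd (X ↘ Spec (CommRingCat.of k))
        (Spec.map (CommRingCat.ofHom (algebraMap k Ω)))))
    have hsq : IsPullback (Curv2.bcFst k X Ω) (Z ↘ Spec (CommRingCat.of Ω))
        (X ↘ Spec (CommRingCat.of k)) (Spec.map (CommRingCat.ofHom (algebraMap k Ω))) :=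
      IsPullback.of_hasPullback _ _
    have : IsIntegralHom (Spec.map (CommRingCat.ofHom (algebraMap k Ω))) := by
      rw [IsIntegralHom.SpecMap_iff]
      exact algebraMap_isIntegral_iff.2 (Algebra.IsAlgebraic.isIntegral)
    have hnod : Curv2.AtWorstNodal Ω Z := by
      intro z hz
      have hx : IsClosed ({Curv2.bcFst k X Ω z} : Set X) := by
        rw [← Set.image_singleton]
        exact (Curv2.bcFst k X Ω).isClosedMap _ hz
      rcases hX _ hx with ⟨U, hxU, hU⟩ | hn
      · refine Or.inl ⟨Curv2.bcFst k X Ω ⁻¹ᵁ U, hxU, ?_⟩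
        exact MorphismProperty.of_isPullback (P := @Smooth)
          ((isPullback_morphismRestrict (Curv2.bcFst k X Ω) U).paste_vert hsq) hU
      · obtain ⟨-, hsep, hQ⟩ := (isNode_iff _).1 hn
        have hodp := isOrdDoublePt_of hsq z hQ hz
        refine Or.inr ((isNode_iff z).2 ⟨hz, ?_, (isQuadPt_of_isOrdDoublePt hodp).1⟩)
        haveI : IsLocallyNoetherian Z := LocallyOfFiniteType.isLocallyNoetherian (Z ↘ Spec (CommRingCat.of Ω))
        exact AlgEquiv.Algebra.isSeparable (AlgEquiv.ofBijective (Algebra.ofId Ω (ResidueField (Z.presheaf.stalk z)))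
          (Crv77.resMap_bijective Ω hz))
    haveI : AlgebraicGeometry.IsReduced (FBase.bc (X ↘ Spec (CommRingCat.of k)) Ω) :=
      Curves2.isReduced_of_atWorstNodal Ω Z hnod
    exact FBase64.geometricallyReduced_of_isReduced_perfect _ Ω

end Groth.Agent.Node12
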