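import Groth.Agent.Node12.Decomp
import Groth.Agent.Cohen12.Structure
import Mathlib.RingTheory.Ideal.AssociatedPrime.Basic
import Mathlib.RingTheory.PowerSeries.Inverse

/-!
# The complete local ring of a nondegenerate quadratic point
-/

set_option autoImplicit false
set_option linter.style.haveILetI false
set_option maxHeartbeats 1600000
set_option synthInstance.maxHeartbeats 100000

universe u

open IsLocalRing

noncomputable section

namespace Groth.Agent.Node12

variable {K : Type u} [Field K]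

/-- The ideal of a binary quadratic form in power series. -/
abbrev quadIdeal (K : Type u) [Field K] (a b c : K) : Ideal (MvPowerSeries (Fin 2) K) :=
  Ideal.span {(MvPowerSeries.C a * MvPowerSeries.X 0 ^ 2 + MvPowerSeries.C b * MvPowerSeries.X 0 * MvPowerSeries.X 1 +
    MvPowerSeries.C c * MvPowerSeries.X 1 ^ 2 : MvPowerSeries (Fin 2) K)}

theorem X_mem_maximalIdeal (i : Fin 2) :
    (MvPowerSeries.X i : MvPowerSeries (Fin 2) K) ∈ maximalIdeal _ :=
  CAlg6.mem_maximalIdeal_iff.2 (MvPowerSeries.constantCoeff_X i)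

theorem quadIdeal_le_sq (a b c : K) : quadIdeal K a b c ≤ maximalIdeal _ ^ 2 := by
  rw [Ideal.span_singleton_le_iff_mem, pow_two, pow_two, pow_two, mul_assoc]
  exact add_mem (add_mem
    (Ideal.mul_mem_left _ _ (Ideal.mul_mem_mul (X_mem_maximalIdeal 0) (X_mem_maximalIdeal 0)))
    (Ideal.mul_mem_left _ _ (Ideal.mul_mem_mul (X_mem_maximalIdeal 0) (X_mem_maximalIdeal 1))))
    (Ideal.mul_mem_left _ _ (Ideal.mul_mem_mul (X_mem_maximalIdeal 1) (X_mem_maximalIdeal 1)))

theorem quadIdeal_ne_top (a b c : K) : quadIdeal K a b c ≠ ⊤ := fun h =>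
  (maximalIdeal.isMaximal (MvPowerSeries (Fin 2) K)).ne_top
    (top_le_iff.1 (h ▸ (quadIdeal_le_sq a b c).trans (Ideal.pow_le_self two_ne_zero)))

theorem quadForm_ne_zero {a b c : K} (hd : 4 * a * c - b ^ 2 ≠ 0) :
    (MvPowerSeries.C a * MvPowerSeries.X 0 ^ 2 + MvPowerSeries.C b * MvPowerSeries.X 0 * MvPowerSeries.X 1 +
      MvPowerSeries.C c * MvPowerSeries.X 1 ^ 2 : MvPowerSeries (Fin 2) K) ≠ 0 := by
  classical
  intro h
  have e1 : MvPowerSeries.coeff (Finsupp.single (0 : Fin 2) 2)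
      (MvPowerSeries.C a * MvPowerSeries.X 0 ^ 2 + MvPowerSeries.C b * MvPowerSeries.X 0 * MvPowerSeries.X 1 +
        MvPowerSeries.C c * MvPowerSeries.X 1 ^ 2 : MvPowerSeries (Fin 2) K) = a := by
    have h1 : Finsupp.single (0 : Fin 2) 2 ≠ Finsupp.single 0 1 + Finsupp.single 1 1 := fun e => by
      simpa using DFunLike.congr_fun e 1
    simp [MvPowerSeries.X_def, MvPowerSeries.monomial_pow, mul_assoc, MvPowerSeries.monomial_mul_monomial,
      MvPowerSeries.coeff_C_mul, MvPowerSeries.coeff_monomial, h1, Finsupp.single_eq_single_iff]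
  have e2 : MvPowerSeries.coeff (Finsupp.single (0 : Fin 2) 1 + Finsupp.single 1 1)
      (MvPowerSeries.C a * MvPowerSeries.X 0 ^ 2 + MvPowerSeries.C b * MvPowerSeries.X 0 * MvPowerSeries.X 1 +
        MvPowerSeries.C c * MvPowerSeries.X 1 ^ 2 : MvPowerSeries (Fin 2) K) = b := by
    have h1 : Finsupp.single (0 : Fin 2) 1 + Finsupp.single 1 1 ≠ Finsupp.single 0 2 := fun e => by
      simpa using DFunLike.congr_fun e 1
    have h2 : Finsupp.single (0 : Fin 2) 1 + Finsupp.single 1 1 ≠ Finsupp.single 1 2 := fun e => by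
      simpa using DFunLike.congr_fun e 0
    simp [MvPowerSeries.X_def, MvPowerSeries.monomial_pow, mul_assoc, MvPowerSeries.monomial_mul_monomial,
      MvPowerSeries.coeff_C_mul, MvPowerSeries.coeff_monomial, h1, h2]
  rw [h, map_zero] at e1 e2
  exact hd (by rw [← e1, ← e2]; ring)

/-- Some element of the maximal ideal of the model is regular. -/
theorem model_exists_regular {a b c : K} (hd : 4 * a * c - b ^ 2 ≠ 0)
    [IsLocalRing (MvPowerSeries (Fin 2) K ⧸ quadIdeal K a b c)] :
    ∃ g ∈ maximalIdeal (MvPowerSeries (Fin 2) K ⧸ quadIdeal K a b c), g ∈ nonZeroDivisors _ := by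
  classical
  let C := MvPowerSeries (Fin 2) K ⧸ quadIdeal K a b c
  let mk := Ideal.Quotient.mk (quadIdeal K a b c)
  have hX : ∀ i, mk (MvPowerSeries.X i) ∈ maximalIdeal C := fun i => by
    rw [mem_maximalIdeal]
    intro hu
    obtain ⟨v, hv⟩ := hu.exists_right_inv
    obtain ⟨v, rfl⟩ := Ideal.Quotient.mk_surjective v
    have h1 := (quadIdeal_le_sq a b c).trans (Ideal.pow_le_self two_ne_zero) (Ideal.Quotient.eq.1 hv)
    have h2 := sub_mem (Ideal.mul_mem_right v _ (X_mem_maximalIdeal i)) h1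
    rw [sub_sub_cancel] at h2
    exact (mem_maximalIdeal _).1 h2 isUnit_one
  by_contra h
  push Not at h
  have hsub : (maximalIdeal C : Set C) ⊆ ⋃ p ∈ associatedPrimes C C, (p : Set C) := fun g hg => by
    rw [biUnion_associatedPrimes_eq_compl_regular]
    exact fun hr => h g hg (mem_nonZeroDivisors_iff_right.2 fun t ht => hr (show g • t = g • (0 : C) by
      rw [smul_zero, smul_eq_mul, mul_comm, ht]))
  obtain ⟨p, hp, hle⟩ := (Ideal.subset_union_prime_finite (associatedPrimes.finite C C) ⊥ ⊥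
    fun p hp _ _ => hp.isPrime).1 hsub
  obtain rfl : maximalIdeal C = p := (maximalIdeal.isMaximal C).eq_of_le hp.isPrime.ne_top hle
  obtain ⟨g, hg⟩ := (isAssociatedPrime_iff_exists_injective_linearMap (maximalIdeal C) C).1 hp |>.2
  obtain ⟨g₀, hg₀⟩ := Ideal.Quotient.mk_surjective (g 1)
  have hann : ∀ i, mk (MvPowerSeries.X i * g₀) = 0 := fun i => by
    rw [map_mul, hg₀, ← smul_eq_mul, ← map_smul, ← map_zero g]
    refine congrArg g ?_
    show (Submodule.Quotient.mk (mk (MvPowerSeries.X i) • (1 : C)) : C ⧸ maximalIdeal C) = 0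
    rw [smul_eq_mul, mul_one]
    exact Ideal.Quotient.eq_zero_iff_mem.2 (hX i)
  have hmem : ∀ i, ∃ t, t * (MvPowerSeries.C a * MvPowerSeries.X 0 ^ 2 +
      MvPowerSeries.C b * MvPowerSeries.X 0 * MvPowerSeries.X 1 + MvPowerSeries.C c * MvPowerSeries.X 1 ^ 2) =
      MvPowerSeries.X i * g₀ := fun i =>
    Ideal.mem_span_singleton'.1 (Ideal.Quotient.eq_zero_iff_mem.1 (hann i))
  obtain ⟨t₀, ht₀⟩ := hmem 0
  obtain ⟨t₁, ht₁⟩ := hmem 1
  have hrel : MvPowerSeries.X 1 * t₀ = MvPowerSeries.X 0 * t₁ :=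
    mul_right_cancel₀ (quadForm_ne_zero hd) (by linear_combination MvPowerSeries.X 1 * ht₀ - MvPowerSeries.X 0 * ht₁)
  obtain ⟨t, rfl⟩ : MvPowerSeries.X 0 ∣ t₀ := by
    rw [MvPowerSeries.X_dvd_iff]
    intro d hd0
    have h1 := congrArg (MvPowerSeries.coeff (Finsupp.single 1 1 + d)) hrel
    rw [MvPowerSeries.X_def, MvPowerSeries.coeff_add_monomial_mul, one_mul] at h1
    rw [h1]
    exact MvPowerSeries.X_dvd_iff.1 ⟨t₁, rfl⟩ _ (by simp [hd0])
  have hX0 : (MvPowerSeries.X 0 : MvPowerSeries (Fin 2) K) ≠ 0 := fun e => by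
    simpa using congrArg (MvPowerSeries.coeff (Finsupp.single (0 : Fin 2) 1)) e
  have hg0 : g₀ = t * (MvPowerSeries.C a * MvPowerSeries.X 0 ^ 2 +
      MvPowerSeries.C b * MvPowerSeries.X 0 * MvPowerSeries.X 1 + MvPowerSeries.C c * MvPowerSeries.X 1 ^ 2) :=
    mul_left_cancel₀ hX0 (by linear_combination -ht₀)
  have h1 : g 1 = 0 := by
    rw [← hg₀, Ideal.Quotient.eq_zero_iff_mem, hg0]
    exact Ideal.mul_mem_left _ _ (Ideal.mem_span_singleton_self _)
  exact one_ne_zero (hg (h1.trans (map_zero g).symm))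

variable {B : Type u} [CommRing B] [IsLocalRing B]

/-- Normal coordinates for a nondegenerate binary quadratic form. -/
theorem exists_normal_coords (σ : K →+* B) {x y : B} (hm : maximalIdeal B = Ideal.span {x, y}) {a b c : K}
    (hd : 4 * a * c - b ^ 2 ≠ 0) (hq : σ a * x ^ 2 + σ b * x * y + σ c * y ^ 2 = 0) :
    ∃ (z w : B) (p r : K), maximalIdeal B = Ideal.span {z, w} ∧ p ^ 2 + 4 * r ≠ 0 ∧
      z ^ 2 = σ p * z * w + σ r * w ^ 2 := by
  have inv : ∀ {t : K}, t ≠ 0 → σ t⁻¹ * σ t = 1 := fun ht => by rw [← map_mul, inv_mul_cancel₀ ht, map_one]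
  by_cases ha : a = 0
  · by_cases hc : c = 0
    · subst ha hc
      have hb : b ≠ 0 := fun hb => hd (by rw [hb]; ring)
      refine ⟨x, y - x, -1, 0, ?_, by norm_num, ?_⟩
      · rw [hm]
        refine le_antisymm (Ideal.span_le.2 ?_) (Ideal.span_le.2 ?_)
        · rintro t (rfl | rfl)
          · exact Ideal.subset_span (by simp)
          · rw [SetLike.mem_coe, Ideal.mem_span_pair]; exact ⟨1, 1, by ring⟩
        · rintro t (rfl | rfl)
          · exact Ideal.subset_span (by simp)
          · rw [SetLike.mem_coe, Ideal.mem_span_pair]; exact ⟨-1, 1, by ring⟩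
      · simp only [map_zero, zero_mul, zero_add, add_zero] at hq
        rw [map_neg, map_one, map_zero]
        linear_combination σ b⁻¹ * hq - x * y * inv hb
    · refine ⟨y, x, -b / c, -a / c, by rw [hm, Set.pair_comm], ?_, ?_⟩
      · rw [show (-b / c) ^ 2 + 4 * (-a / c) = -(4 * a * c - b ^ 2) / c ^ 2 by field_simp; ring]
        exact div_ne_zero (neg_ne_zero.2 hd) (pow_ne_zero 2 hc)
      · rw [div_eq_mul_inv, div_eq_mul_inv, map_mul, map_mul, map_neg, map_neg]
        linear_combination σ c⁻¹ * hq - y ^ 2 * inv hc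
  · refine ⟨x, y, -b / a, -c / a, hm, ?_, ?_⟩
    · rw [show (-b / a) ^ 2 + 4 * (-c / a) = -(4 * a * c - b ^ 2) / a ^ 2 by field_simp; ring]
      exact div_ne_zero (neg_ne_zero.2 hd) (pow_ne_zero 2 ha)
    · rw [div_eq_mul_inv, div_eq_mul_inv, map_mul, map_mul, map_neg, map_neg]
      linear_combination σ a⁻¹ * hq - x ^ 2 * inv ha

/-- A complete local ring with two generators satisfying a nondegenerate quadratic relation, not regular,
with a regular element, is reduced. -/
theorem isReduced_of_relation [IsAdicComplete (maximalIdeal B) B] (σ : K →+* B)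
    (hσ : Function.Surjective ((residue B).comp σ)) {x y : B} (hm : maximalIdeal B = Ideal.span {x, y})
    {a b c : K} (hd : 4 * a * c - b ^ 2 ≠ 0) (hq : σ a * x ^ 2 + σ b * x * y + σ c * y ^ 2 = 0)
    (hpr : ∀ g, maximalIdeal B ≠ Ideal.span {g}) {e : B} (hem : e ∈ maximalIdeal B)
    (he : e ∈ nonZeroDivisors B) : IsReduced B := by
  obtain ⟨z, w, p, r, hm', hpr', hzw⟩ := exists_normal_coords σ hm hd hq
  have hwm : w ∈ maximalIdeal B := hm' ▸ Ideal.subset_span (by simp)
  obtain ⟨ψ, hX, hC⟩ := exists_eval σ w hwm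
  have hw := generator_mem_nonZeroDivisors hm' hzw hem he
  refine (isReduced_iff_pow_one_lt 2 one_lt_two).mpr fun g hg => ?_
  obtain ⟨S, T, rfl⟩ := exists_decomp_quadratic σ hσ hm' hzw ψ hX hC g
  have h := decomp_quadratic_unique σ hm' hw (hpr w) ψ hX hC
    (S := S ^ 2 + PowerSeries.C r * PowerSeries.X ^ 2 * T ^ 2)
    (T := 2 * S * T + PowerSeries.C p * PowerSeries.X * T ^ 2) (by
      simp only [map_add, map_mul, map_pow, map_ofNat, hX, hC]
      linear_combination hg - ψ T ^ 2 * hzw)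
  obtain ⟨h1, h2⟩ := h
  have hT : T = 0 := by
    by_contra hT
    have h3 : 2 * S + PowerSeries.C p * PowerSeries.X * T = 0 :=
      (mul_eq_zero.1 (show T * (2 * S + PowerSeries.C p * PowerSeries.X * T) = 0 by linear_combination h2)).resolve_left hT
    have h4 : PowerSeries.C (p ^ 2 + 4 * r) * (PowerSeries.X ^ 2 * T ^ 2) = 0 := by
      simp only [map_add, map_mul, map_pow, map_ofNat]
      linear_combination 4 * h1 + (PowerSeries.C p * PowerSeries.X * T - 2 * S) * h3
    rcases mul_eq_zero.1 h4 with h5 | h5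
    · exact hpr' (PowerSeries.C_injective (h5.trans (map_zero _).symm))
    · simp [hT, PowerSeries.X_ne_zero] at h5
  subst hT
  have hS : S = 0 := by simpa using h1
  simp [hS]

/-- A complete local ring with two generators satisfying a nondegenerate quadratic relation, not regular,
with a regular element, is the quotient of power series by the quadratic form. -/
theorem exists_equiv_of_relation [IsAdicComplete (maximalIdeal B) B] [IsNoetherianRing B] (σ : K →+* B)
    (hσ : Function.Surjective ((residue B).comp σ)) {x y : B} (hm : maximalIdeal B = Ideal.span {x, y})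
    {a b c : K} (hd : 4 * a * c - b ^ 2 ≠ 0) (hq : σ a * x ^ 2 + σ b * x * y + σ c * y ^ 2 = 0)
    (hpr : ∀ g, maximalIdeal B ≠ Ideal.span {g}) {e : B} (hem : e ∈ maximalIdeal B)
    (he : e ∈ nonZeroDivisors B) :
    ∃ E : B ≃+* (MvPowerSeries (Fin 2) K ⧸ quadIdeal K a b c),
      (∀ t, E (σ t) = Ideal.Quotient.mk _ (MvPowerSeries.C t)) ∧
      E x = Ideal.Quotient.mk _ (MvPowerSeries.X 0) ∧ E y = Ideal.Quotient.mk _ (MvPowerSeries.X 1) := by
  have hxy : ∀ i, ![x, y] i ∈ maximalIdeal B := fun i => by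
    fin_cases i <;> exact hm ▸ Ideal.subset_span (by simp)
  obtain ⟨φ, hφC, hφX⟩ := LA18.exists_powerSeries_hom (maximalIdeal B) σ ![x, y] hxy
  haveI := CAlg6.isAdicComplete_maximalIdeal (k := K) (d := 2)
  have hφm : (maximalIdeal (MvPowerSeries (Fin 2) K)).map φ = maximalIdeal B := by
    rw [CAlg6.maximalIdeal_eq_span_X, Ideal.map_span, ← Set.range_comp, hm]
    congr 1
    ext t
    simp [Set.mem_range, hφX, Fin.exists_fin_two, eq_comm]
  have hφs : Function.Surjective φ := by
    refine CAlg6.surjective_of_cotangent φ hφm.le (fun t => ?_) (by rw [hφm]; exact le_sup_left)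
    obtain ⟨s, rfl⟩ := hσ t
    exact ⟨MvPowerSeries.C s, by simp only [RingHom.comp_apply, hφC]⟩
  have hker : ∀ g ∈ quadIdeal K a b c, φ g = 0 := fun g hg => by
    obtain ⟨t, rfl⟩ := Ideal.mem_span_singleton'.1 hg
    simp only [map_mul, map_add, map_pow, hφC, hφX]
    simp [hq]
  let C := MvPowerSeries (Fin 2) K ⧸ quadIdeal K a b c
  haveI : Nontrivial C := Ideal.Quotient.nontrivial_iff.2 (quadIdeal_ne_top a b c)
  haveI : IsLocalRing C := IsLocalRing.of_surjective' (Ideal.Quotient.mk _) Ideal.Quotient.mk_surjective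
  haveI : IsNoetherianRing (MvPowerSeries (Fin 2) K) := Cohen12.isNoetherianRing_powerSeries K 2
  haveI : IsAdicComplete (maximalIdeal C) C := Cohen12.isAdicComplete_quotient _
  let ρ : C →+* B := Ideal.Quotient.lift _ φ hker
  have hρs : Function.Surjective ρ := fun t => by
    obtain ⟨g, rfl⟩ := hφs t
    exact ⟨Ideal.Quotient.mk _ g, rfl⟩
  haveI : IsLocalHom ρ := IsLocalHom.of_surjective ρ hρs
  let σC : K →+* C := (Ideal.Quotient.mk _).comp MvPowerSeries.C
  have hσC : Function.Surjective ((residue C).comp σC) := fun t => by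
    obtain ⟨g, rfl⟩ := residue_surjective t
    obtain ⟨g, rfl⟩ := Ideal.Quotient.mk_surjective g
    refine ⟨MvPowerSeries.constantCoeff g, ?_⟩
    rw [RingHom.comp_apply, ← sub_eq_zero, ← map_sub, residue_eq_zero_iff, RingHom.comp_apply, ← map_sub,
      mem_maximalIdeal]
    intro hu
    have h2 := hu.map (residue C)
    rw [← RingHom.comp_apply] at h2
    have : IsLocalHom (Ideal.Quotient.mk (quadIdeal K a b c)) :=
      IsLocalHom.of_surjective _ Ideal.Quotient.mk_surjective
    have h3 := isUnit_of_map_unit (Ideal.Quotient.mk (quadIdeal K a b c)) _ hu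
    rw [MvPowerSeries.isUnit_iff_constantCoeff] at h3
    simp at h3
  have hmC : maximalIdeal C = Ideal.span {Ideal.Quotient.mk _ (MvPowerSeries.X 0), Ideal.Quotient.mk _ (MvPowerSeries.X 1)} := by
    rw [← IsLocalRing.map_maximalIdeal_of_surjective _ Ideal.Quotient.mk_surjective,
      CAlg6.maximalIdeal_eq_span_X, Ideal.map_span, ← Set.range_comp]
    congr 1
    ext t
    simp [Set.mem_range, Fin.exists_fin_two, eq_comm, C]
  have hqC : σC a * (Ideal.Quotient.mk (quadIdeal K a b c) (MvPowerSeries.X 0)) ^ 2 +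
      σC b * Ideal.Quotient.mk _ (MvPowerSeries.X 0) * Ideal.Quotient.mk _ (MvPowerSeries.X 1) +
      σC c * (Ideal.Quotient.mk _ (MvPowerSeries.X 1)) ^ 2 = 0 := by
    simp only [σC, RingHom.comp_apply, ← map_pow, ← map_mul, ← map_add]
    exact Ideal.Quotient.eq_zero_iff_mem.2 (Ideal.mem_span_singleton_self _)
  obtain ⟨z, w, p, r, hmz, -, hzw⟩ := exists_normal_coords σC hmC hd hqC
  have hwm : w ∈ maximalIdeal C := hmz ▸ Ideal.subset_span (by simp)
  obtain ⟨ψ, hψX, hψC⟩ := exists_eval σC w hwm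
  have hρC : ∀ t, ρ (σC t) = σ t := hφC
  have hmB : maximalIdeal B = Ideal.span {ρ z, ρ w} := by
    rw [← IsLocalRing.map_maximalIdeal_of_surjective ρ hρs, hmz, Ideal.map_span, Set.image_pair]
  have hzwB : ρ z ^ 2 = σ p * ρ z * ρ w + σ r * ρ w ^ 2 := by
    simp only [← hρC, ← map_pow, ← map_mul, ← map_add]
    rw [hzw]
  have hinj : Function.Injective ρ := (injective_iff_map_eq_zero ρ).2 fun g hg => by
    obtain ⟨S, T, rfl⟩ := exists_decomp_quadratic σC hσC hmz hzw ψ hψX hψC g
    obtain ⟨rfl, rfl⟩ := decomp_quadratic_unique σ hmB (generator_mem_nonZeroDivisors hmB hzwB hem he)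
      (hpr _) (ρ.comp ψ) (by simp [hψX]) (fun t => by simp [hψC, hρC]) (S := S) (T := T) (by simpa using hg)
    simp
  refine ⟨(RingEquiv.ofBijective ρ ⟨hinj, hρs⟩).symm, fun t => ?_, ?_, ?_⟩
  · exact (RingEquiv.symm_apply_eq _).2 (hφC t).symm
  · exact (RingEquiv.symm_apply_eq _).2 (hφX 0).symm
  · exact (RingEquiv.symm_apply_eq _).2 (hφX 1).symm

/-- The model is not regular: its maximal ideal is not principal. -/
theorem model_not_principal (a b c : K) [IsLocalRing (MvPowerSeries (Fin 2) K ⧸ quadIdeal K a b c)]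
    (g : MvPowerSeries (Fin 2) K ⧸ quadIdeal K a b c) :
    maximalIdeal (MvPowerSeries (Fin 2) K ⧸ quadIdeal K a b c) ≠ Ideal.span {g} := by
  intro h
  obtain ⟨g, rfl⟩ := Ideal.Quotient.mk_surjective g
  have h1 : maximalIdeal (MvPowerSeries (Fin 2) K) ≤ Ideal.span {g} ⊔ maximalIdeal _ ^ 2 := by
    intro f hf
    have h2 : Ideal.Quotient.mk (quadIdeal K a b c) f ∈ maximalIdeal _ := by
      rw [← IsLocalRing.map_maximalIdeal_of_surjective _ Ideal.Quotient.mk_surjective]
      exact Ideal.mem_map_of_mem _ hf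
    rw [h, Ideal.mem_span_singleton'] at h2
    obtain ⟨t, ht⟩ := h2
    obtain ⟨t, rfl⟩ := Ideal.Quotient.mk_surjective t
    rw [← map_mul, Ideal.Quotient.eq] at ht
    have := sub_mem (Ideal.mem_sup_left (Ideal.mul_mem_left _ t (Ideal.mem_span_singleton_self g)))
      (Ideal.mem_sup_right (quadIdeal_le_sq a b c ht))
    rwa [sub_sub_cancel] at this
  have h3 : maximalIdeal (MvPowerSeries (Fin 2) K) ≤ Ideal.span {g} := by
    haveI : IsNoetherianRing (MvPowerSeries (Fin 2) K) := Cohen12.isNoetherianRing_powerSeries K 2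
    refine Submodule.le_of_le_smul_of_le_jacobson_bot (IsNoetherian.noetherian _)
      (IsLocalRing.maximalIdeal_le_jacobson _) (h1.trans (sup_le_sup_left ?_ _))
    rw [pow_two, smul_eq_mul]
  haveI : IsNoetherianRing (MvPowerSeries (Fin 2) K) := Cohen12.isNoetherianRing_powerSeries K 2
  obtain ⟨t₀, ht₀⟩ := Ideal.mem_span_singleton'.1 (h3 (X_mem_maximalIdeal (K := K) 0))
  obtain ⟨t₁, ht₁⟩ := Ideal.mem_span_singleton'.1 (h3 (X_mem_maximalIdeal (K := K) 1))
  have hnu : ¬ IsUnit g := by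
    intro hu
    exact (maximalIdeal.isMaximal _).ne_top (h.trans
      (Ideal.span_singleton_eq_top.2 (hu.map (Ideal.Quotient.mk (quadIdeal K a b c)))))
  have hg0 : MvPowerSeries.constantCoeff g = 0 := by
    rwa [MvPowerSeries.isUnit_iff_constantCoeff, isUnit_iff_ne_zero, not_not] at hnu
  classical
  have e : ∀ (i : Fin 2) (t : MvPowerSeries (Fin 2) K),
      MvPowerSeries.coeff (Finsupp.single i 1) (t * g) =
        MvPowerSeries.constantCoeff t * MvPowerSeries.coeff (Finsupp.single i 1) g := fun i t => by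
    rw [MvPowerSeries.coeff_mul, Finsupp.antidiagonal_single, Finset.sum_map,
      Finset.Nat.sum_antidiagonal_succ, Finset.Nat.antidiagonal_zero, Finset.sum_singleton]
    simp [hg0]
  have a00 := congrArg (MvPowerSeries.coeff (Finsupp.single (0 : Fin 2) 1)) ht₀
  have a01 := congrArg (MvPowerSeries.coeff (Finsupp.single (1 : Fin 2) 1)) ht₀
  have a11 := congrArg (MvPowerSeries.coeff (Finsupp.single (1 : Fin 2) 1)) ht₁
  rw [e] at a00 a01 a11
  simp [MvPowerSeries.coeff_X, Finsupp.single_eq_single_iff] at a00 a01 a11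
  rcases a01 with h | h
  · simp [h] at a00
  · simp [h] at a11

end Groth.Agent.Node12
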